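import Groth.Agent.Lib.LocConst.ConstGerm
import Groth.Agent.Lib.EtSite.PropSplit
import Groth.Agent.Lib.EtSite.PushUI

/-!
# Sections of constant sheaves are Zariski locally constant
-/

set_option autoImplicit false
set_option backward.isDefEq.respectTransparency false
universe u

open CategoryTheory CategoryTheory.Limits AlgebraicGeometry Opposite
open GrothLib.EtSite

noncomputable section

namespace GrothLib.EtDer

variable {X : Scheme.{u}} (M : AddCommGrpCat.{u + 1})

/-- The constant sheaf. -/
abbrev CM (X : Scheme.{u}) : EtCoh.Ab X := (constantSheaf X.smallEtaleTopology AddCommGrpCat.{u + 1}).obj M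

/-- The constant section. -/
def cst (V : X.Etale) : M ⟶ (CM M X).obj.obj (op V) :=
  (CategoryTheory.toSheafify X.smallEtaleTopology ((Functor.const (X.Etale)ᵒᵖ).obj M)).app (op V)

theorem map_cst {V W : X.Etale} (g : W ⟶ V) (c : M) :
    (CM M X).obj.map g.op (cst M V c) = cst M W c :=
  (ConcreteCategory.congr_hom ((CategoryTheory.toSheafify X.smallEtaleTopology
    ((Functor.const (X.Etale)ᵒᵖ).obj M)).naturality g.op) c).symm

theorem cst_top (c : M) : (EtCore.constAdj X).unit.app M c = cst M (EtCoh.top X) c :=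
  ConcreteCategory.congr_hom (GrothLib.LocConst.constAdj_unit_app M) c

theorem cst_injective (V : X.Etale) (v : V.left) : Function.Injective (cst M V) := by
  let ξ := gac (V.hom.base v)
  obtain ⟨t, -⟩ := exists_fib ξ v (gac_default _).symm
  intro a b h
  refine (GrothLib.LocConst.bijective_germ_const ξ M).1 ?_
  show germ ξ (CM M X) (GrothLib.LocConst.topFib ξ) ((EtCore.constAdj X).unit.app M a) =
    germ ξ (CM M X) (GrothLib.LocConst.topFib ξ) ((EtCore.constAdj X).unit.app M b)
  rw [cst_top, cst_top, ← GrothLib.LocConst.fiber_map_from_top ξ ((EtCore.topIsTerminal X).from V) t]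
  refine ((Scheme.pointSmallEtale ξ).toPresheafFiber_w_apply
    ((EtCore.topIsTerminal X).from V) t (CM M X).obj _).symm.trans (Eq.trans ?_
      ((Scheme.pointSmallEtale ξ).toPresheafFiber_w_apply
        ((EtCore.topIsTerminal X).from V) t (CM M X).obj _))
  rw [map_cst, map_cst, h]

/-- The inclusion of opens of an etale `X`-scheme. -/
def opensMap (V : X.Etale) {O O' : V.left.Opens} (h : O ≤ O') : opensObj V O ⟶ opensObj V O' :=
  MorphismProperty.Over.homMk (V.left.homOfLE h) (by
    show V.left.homOfLE h ≫ O'.ι ≫ V.hom = O.ι ≫ V.hom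
    rw [← Category.assoc, Scheme.homOfLE_ι])

theorem opensMap_opensHom (V : X.Etale) {O O' : V.left.Opens} (h : O ≤ O') :
    opensMap V h ≫ opensHom V O' = opensHom V O :=
  MorphismProperty.Over.Hom.ext (Scheme.homOfLE_ι _ h)

theorem sheaf_isSheaf (F : EtCoh.Ab X) : Presieve.IsSheaf X.smallEtaleTopology (F.obj ⋙ forget _) :=
  (isSheaf_iff_isSheaf_of_type _ _).1
    ((sheafCompose X.smallEtaleTopology (forget AddCommGrpCat.{u + 1})).obj F).property

/-- Every section is constant on an open neighbourhood of each point. -/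
theorem exists_open_cst (V : X.Etale) (s : (CM M X).obj.obj (op V)) (v : V.left) :
    ∃ (O : V.left.Opens) (c : M), v ∈ O ∧
      (CM M X).obj.map (opensHom V O).op s = cst M (opensObj V O) c := by
  obtain ⟨W, g, w, hg, hw⟩ := (mem_topology_iff _).1
    (Presheaf.imageSieve_mem X.smallEtaleTopology
      (CategoryTheory.toSheafify X.smallEtaleTopology ((Functor.const (X.Etale)ᵒᵖ).obj M)) (U := op V) s) v
  obtain ⟨c, hc⟩ := hg
  change M at c
  haveI : Etale V.hom := V.prop
  haveI : Etale W.hom := W.prop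
  haveI : Etale g.left := inferInstance
  let O : V.left.Opens := ⟨Set.range g.left.base, g.left.isOpenMap.isOpen_range⟩
  refine ⟨O, c, ⟨w, hw⟩, ?_⟩
  let T := opensObj V O
  let l : W.left ⟶ O.toScheme := IsOpenImmersion.lift O.ι g.left (by rw [Scheme.Opens.range_ι]; exact subset_rfl)
  have hl : l ≫ O.ι = g.left := IsOpenImmersion.lift_fac _ _ _
  let k : W ⟶ T := MorphismProperty.Over.homMk l (by
    show l ≫ O.ι ≫ V.hom = W.hom
    rw [← Category.assoc, hl]
    exact MorphismProperty.Over.w g)
  have hk : k ≫ opensHom V O = g := MorphismProperty.Over.Hom.ext hl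
  have hcov : Sieve.generate (Presieve.singleton k) ∈ X.smallEtaleTopology T := by
    refine (mem_topology_iff _).2 fun p => ?_
    obtain ⟨w', hw'⟩ := p.2
    refine ⟨W, k, w', Sieve.le_generate _ _ _ (Presieve.singleton.mk), ?_⟩
    apply O.ι.isOpenEmbedding.injective
    exact (congrArg (fun m => m.base w') hl).trans hw'
  refine (sheaf_isSheaf (CM M X) _ hcov).isSeparatedFor.ext ?_
  rintro Z f ⟨Z', a, b, ⟨⟩, rfl⟩
  show (CM M X).obj.map (a ≫ k).op ((CM M X).obj.map (opensHom V O).op s) = (CM M X).obj.map (a ≫ k).op (cst M T c)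
  rw [op_comp, Functor.map_comp_apply, Functor.map_comp_apply, map_cst M k c,
    ← Functor.map_comp_apply ((CM M X).obj) (opensHom V O).op k.op, ← op_comp, hk]
  exact congrArg _ hc.symm

/-- Two constant restrictions on overlapping opens have the same value. -/
theorem cst_eq (V : X.Etale) (s : (CM M X).obj.obj (op V)) {O O' : V.left.Opens} {c c' : M}
    (h : (CM M X).obj.map (opensHom V O).op s = cst M (opensObj V O) c)
    (h' : (CM M X).obj.map (opensHom V O').op s = cst M (opensObj V O') c')
    (p : V.left) (hp : p ∈ O) (hp' : p ∈ O') : c = c' := by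
  refine cst_injective M (opensObj V (O ⊓ O')) (⟨p, hp, hp'⟩ : (O ⊓ O').toScheme) ?_
  rw [← map_cst M (opensMap V (inf_le_left : O ⊓ O' ≤ O)), ← h,
    ← map_cst M (opensMap V (inf_le_right : O ⊓ O' ≤ O')), ← h', ← Functor.map_comp_apply,
    ← Functor.map_comp_apply, ← op_comp, ← op_comp, opensMap_opensHom, opensMap_opensHom]

/-- The constant value near a point. -/
def val (V : X.Etale) (s : (CM M X).obj.obj (op V)) (v : V.left) : M :=
  (exists_open_cst M V s v).choose_spec.choose

theorem val_eq (V : X.Etale) (s : (CM M X).obj.obj (op V)) {O : V.left.Opens} {c : M}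
    (h : (CM M X).obj.map (opensHom V O).op s = cst M (opensObj V O) c) (v : V.left) (hv : v ∈ O) :
    val M V s v = c :=
  cst_eq M V s (exists_open_cst M V s v).choose_spec.choose_spec.2 h v
    (exists_open_cst M V s v).choose_spec.choose_spec.1 hv

theorem isLocallyConstant_val (V : X.Etale) (s : (CM M X).obj.obj (op V)) :
    IsLocallyConstant (val M V s) := by
  refine (IsLocallyConstant.iff_exists_open _).2 fun v => ?_
  obtain ⟨O, c, hv, h⟩ := exists_open_cst M V s v
  exact ⟨O, O.2, hv, fun p hp => (val_eq M V s h p hp).trans (val_eq M V s h v hv).symm⟩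

theorem ext_val (V : X.Etale) (s t : (CM M X).obj.obj (op V)) (h : ∀ v, val M V s v = val M V t v) :
    s = t := by
  have hex : ∀ v, ∃ (O : V.left.Opens) (c : M), v ∈ O ∧
      (CM M X).obj.map (opensHom V O).op s = cst M (opensObj V O) c ∧
      (CM M X).obj.map (opensHom V O).op t = cst M (opensObj V O) c := fun v => by
    obtain ⟨O, c, hv, hs⟩ := exists_open_cst M V s v
    obtain ⟨O', c', hv', ht⟩ := exists_open_cst M V t v
    have : c = c' := (val_eq M V s hs v hv).symm.trans ((h v).trans (val_eq M V t ht v hv'))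
    subst this
    refine ⟨O ⊓ O', c, ⟨hv, hv'⟩, ?_, ?_⟩
    · rw [← opensMap_opensHom V (inf_le_left : O ⊓ O' ≤ O), op_comp, Functor.map_comp_apply, hs, map_cst]
    · rw [← opensMap_opensHom V (inf_le_right : O ⊓ O' ≤ O'), op_comp, Functor.map_comp_apply, ht, map_cst]
  choose O c hv hs ht using hex
  exact eq_of_glue (sheaf_isSheaf (CM M X)) V O
    (eq_top_iff.2 fun v _ => TopologicalSpace.Opens.mem_iSup.2 ⟨v, hv v⟩) s t fun v => (hs v).trans (ht v).symm

/-- Locally constant functions give sections. -/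
theorem exists_val (V : X.Etale) (φ : V.left → M) (hφ : IsLocallyConstant φ) :
    ∃ s, ∀ v, val M V s v = φ v := by
  let O : M → V.left.Opens := fun c => ⟨φ ⁻¹' {c}, hφ {c}⟩
  obtain ⟨s, hs, -⟩ := existsUnique_glue (sheaf_isSheaf (CM M X)) V O
    (fun a b hab => by
      rw [disjoint_iff_inf_le]
      intro p hp
      exact hab (hp.1.symm.trans hp.2))
    (eq_top_iff.2 fun v _ => TopologicalSpace.Opens.mem_iSup.2 ⟨φ v, rfl⟩)
    fun c => cst M (opensObj V (O c)) c
  exact ⟨s, fun v => val_eq M V s (hs (φ v)) v rfl⟩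

theorem val_map {V W : X.Etale} (g : W ⟶ V) (s : (CM M X).obj.obj (op V)) (w : W.left) :
    val M W ((CM M X).obj.map g.op s) w = val M V s (g.left.base w) := by
  obtain ⟨O, c, hv, hs⟩ := exists_open_cst M V s (g.left.base w)
  refine (val_eq M W _ (O := g.left ⁻¹ᵁ O) ?_ w hv).trans (val_eq M V s hs _ hv).symm
  let k : opensObj W (g.left ⁻¹ᵁ O) ⟶ opensObj V O :=
    MorphismProperty.Over.homMk (g.left ∣_ O) (by
      show (g.left ∣_ O) ≫ O.ι ≫ V.hom = (g.left ⁻¹ᵁ O).ι ≫ W.hom
      rw [← Category.assoc, morphismRestrict_ι, Category.assoc]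
      exact congrArg (_ ≫ ·) (MorphismProperty.Over.w g))
  have hk : k ≫ opensHom V O = opensHom W (g.left ⁻¹ᵁ O) ≫ g :=
    MorphismProperty.Over.Hom.ext (morphismRestrict_ι _ _)
  rw [← Functor.map_comp_apply, ← op_comp, ← hk, op_comp, Functor.map_comp_apply, hs, map_cst]

theorem val_cst (V : X.Etale) (c : M) (v : V.left) : val M V (cst M V c) v = c :=
  val_eq M V _ (O := ⊤) (map_cst M _ c) v trivial

end GrothLib.EtDer
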