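import Groth.Agent.Lib.EtSite.StrictHensel
import Groth.Agent.Lib.IndEt.Retract
import Groth.Prelude.Def_EtBase
import Mathlib.AlgebraicGeometry.Morphisms.Etale
import Mathlib.RingTheory.Localization.FractionRing

/-!
# Sections of etale morphisms near points with strictly henselian local rings
-/

set_option autoImplicit false
universe u

open CategoryTheory CategoryTheory.Limits AlgebraicGeometry TensorProduct

namespace GrothLib.EtDer

/-- An etale morphism has a section near a point below which the local ring is strictly henselian. -/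
theorem exists_open_section {X W : Scheme.{u}} (g : W ⟶ X) [Etale g] (w : W)
    (hx : EtCoh.IsStrictlyHenselianLocalRing (X.presheaf.stalk (g.base w))) :
    ∃ (V : X.Opens) (s : V.toScheme ⟶ W), g.base w ∈ V ∧ s ≫ g = V.ι := by
  obtain ⟨U, hU, hxU, -⟩ := exists_isAffineOpen_mem_and_subset (x := g.base w) (U := ⊤) trivial
  obtain ⟨O, hO, hwO, hOU⟩ := exists_isAffineOpen_mem_and_subset (x := w) (U := g ⁻¹ᵁ U) hxU
  let R := Γ(X, U)
  let A := Γ(W, O)
  letI : Algebra R A := (g.appLE U O hOU).hom.toAlgebra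
  haveI : Algebra.Etale R A :=
    HasRingHomProperty.appLE @Etale g inferInstance ⟨U, hU⟩ ⟨O, hO⟩ hOU
  let q := (hO.primeIdealOf ⟨w, hwO⟩).asIdeal
  let p := (hU.primeIdealOf ⟨g.base w, hxU⟩).asIdeal
  have hqp : q.comap (algebraMap R A) = p :=
    congrArg PrimeSpectrum.asIdeal (IsAffineOpen.comap_primeIdealOf_appLE (f := g) U hU O hO hOU hwO)
  let B := X.presheaf.stalk (g.base w)
  letI : Algebra R B := (X.presheaf.germ U (g.base w) hxU).hom.toAlgebra
  haveI : IsLocalization.AtPrime B p := hU.isLocalization_stalk ⟨g.base w, hxU⟩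
  let Ω := FractionRing (A ⧸ q)
  let φA : A →+* Ω := (algebraMap (A ⧸ q) Ω).comp (Ideal.Quotient.mk q)
  have hker : ∀ a, φA a = 0 ↔ a ∈ q := fun a =>
    (map_eq_zero_iff _ (IsFractionRing.injective (A ⧸ q) Ω)).trans Ideal.Quotient.eq_zero_iff_mem
  have hunit : ∀ y : p.primeCompl, IsUnit ((φA.comp (algebraMap R A)) y) := fun y => by
    refine isUnit_iff_ne_zero.2 fun h => y.2 ?_
    exact hqp.le ((hker _).1 h)
  let ρ : B →+* Ω := IsLocalization.lift hunit
  have hρ : RingHom.ker ρ = IsLocalRing.maximalIdeal B := by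
    refine le_antisymm (IsLocalRing.le_maximalIdeal (RingHom.ker_ne_top ρ)) ?_
    rw [← IsLocalization.AtPrime.map_eq_maximalIdeal p B, Ideal.map_le_iff_le_comap]
    intro r hr
    rw [← hqp] at hr
    show ρ (algebraMap R B r) = 0
    rw [IsLocalization.lift_eq]
    exact (hker _).2 hr
  letI : Algebra R Ω := (φA.comp (algebraMap R A)).toAlgebra
  let ρₐ : B →ₐ[R] Ω := ⟨ρ, fun r => IsLocalization.lift_eq hunit r⟩
  let φₐ : A →ₐ[R] Ω := ⟨φA, fun r => rfl⟩
  let φ : B ⊗[R] A →ₐ[R] Ω := Algebra.TensorProduct.productMap ρₐ φₐ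
  haveI := hx.1
  haveI := hx.2
  obtain ⟨s, -⟩ := GrothLib.EtSite.exists_algHom_etale (R := B) (A := B ⊗[R] A) φ.toRingHom ρ
    (RingHom.ext fun b => Algebra.TensorProduct.productMap_left_apply ρₐ φₐ b) hρ
  let sA : A →ₐ[R] B := (s.restrictScalars R).comp Algebra.TensorProduct.includeRight
  obtain ⟨f, hf, a, -, -⟩ := GrothLib.IndEt.exists_away_factor p.primeCompl sA
  let k := Spec.map (CommRingCat.ofHom (algebraMap R (Localization.Away f))) ≫ hU.fromSpec
  haveI : IsOpenImmersion (Spec.map (CommRingCat.ofHom (algebraMap R (Localization.Away f)))) :=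
    IsOpenImmersion.of_isLocalization f
  haveI : IsOpenImmersion k := inferInstanceAs (IsOpenImmersion (_ ≫ hU.fromSpec))
  refine ⟨k.opensRange, k.isoOpensRange.inv ≫ Spec.map (CommRingCat.ofHom a.toRingHom) ≫ hO.fromSpec, ?_, ?_⟩
  · have hmem : hU.primeIdealOf ⟨g.base w, hxU⟩ ∈
        Set.range (Spec.map (CommRingCat.ofHom (algebraMap R (Localization.Away f)))).base := by
      change _ ∈ Set.range (PrimeSpectrum.comap (algebraMap R (Localization.Away f)))
      rw [PrimeSpectrum.localization_away_comap_range _ f]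
      exact hf
    obtain ⟨z, hz⟩ := hmem
    exact ⟨z, (congrArg hU.fromSpec.base hz).trans (hU.fromSpec_primeIdealOf ⟨g.base w, hxU⟩)⟩
  · rw [Category.assoc, Category.assoc, ← hU.SpecMap_appLE_fromSpec g hO hOU, ← Spec.map_comp_assoc]
    have : g.appLE U O hOU ≫ CommRingCat.ofHom a.toRingHom =
        CommRingCat.ofHom (algebraMap R (Localization.Away f)) := by
      ext r
      exact a.commutes r
    rw [this]
    exact k.isoOpensRange_inv_comp

end GrothLib.EtDer
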