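import Groth.Agent.Lib.SheafCoh.Compare
import Mathlib.CategoryTheory.Sites.EpiMono
import Mathlib.CategoryTheory.Abelian.GrothendieckAxioms.Colim
import Mathlib.Algebra.Category.Grp.AB
import Groth.Agent.Lib.EtDer.StalkSection
import Groth.Agent.Lib.EtSite.PropSplit
import Groth.Prelude.Def_EtZar
import Groth.Prelude.Def_EtCore

/-!
# Restriction of etale abelian sheaves to the Zariski site
-/

set_option autoImplicit false
set_option linter.style.haveILetI false
set_option linter.unusedSectionVars false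
set_option backward.isDefEq.respectTransparency false
universe u w w'

open CategoryTheory CategoryTheory.Limits CategoryTheory.Abelian AlgebraicGeometry Opposite

noncomputable section

namespace GrothLib.EtDer

section Compare

open GrothLib.SheafCoh

variable {A : Type*} [Category A] [Abelian A] [HasExt.{w} A] [EnoughInjectives A]
  {B : Type*} [Category B] [Abelian B] [HasExt.{w'} B]
  (G : A ⥤ B) [G.PreservesZeroMorphisms] (X : A) (Y : B) (φ : ∀ F : A, (X ⟶ F) ≃+ (Y ⟶ G.obj F))

/-- Comparison of `Ext` along a functor exact on a class closed under cokernels into injectives. -/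
theorem nonempty_ext_addEquiv_of_class (P : A → Prop)
    (hφ : ∀ {F F' : A} (g : F ⟶ F') (a : X ⟶ F), φ F' (a ≫ g) = φ F a ≫ G.map g)
    (hG : ∀ F, P F → P (injSES F).X₃ ∧ ((injSES F).map G).ShortExact)
    (hI : ∀ I : A, Injective I → ∀ n : ℕ, Subsingleton (Ext.{w'} Y (G.obj I) (n + 1)))
    (n : ℕ) (F : A) (hF : P F) : Nonempty (Ext.{w} X F n ≃+ Ext.{w'} Y (G.obj F) n) := by
  induction n generalizing F with
  | zero => exact ⟨(Ext.addEquiv₀.trans (φ F)).trans Ext.addEquiv₀.symm⟩
  | succ n ih =>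
    have hS := injSES_shortExact F
    have hT := (hG F hF).2
    have hX : ∀ m, Subsingleton (Ext.{w} X (injSES F).X₂ (m + 1)) := fun m =>
      Ext.subsingleton_of_injective _ _ _
    have hY : ∀ m, Subsingleton (Ext.{w'} Y ((injSES F).map G).X₂ (m + 1)) := fun m =>
      hI _ (Injective.injective_under F) m
    cases n with
    | zero =>
      let a : (X ⟶ (injSES F).X₃) →+ Ext.{w} X F 1 := deltaHom hS
      let b : (X ⟶ (injSES F).X₃) →+ Ext.{w'} Y (G.obj F) 1 :=
        (deltaHom (X := Y) hT).comp (φ (injSES F).X₃).toAddMonoidHom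
      have ha : Function.Surjective a := deltaHom_surjective hS (hX 0)
      have hb : Function.Surjective b :=
        (deltaHom_surjective (X := Y) hT (hY 0)).comp (φ (injSES F).X₃).surjective
      have hker : a.ker = b.ker := by
        ext g
        change deltaHom hS g = 0 ↔ deltaHom (X := Y) hT (φ _ g) = 0
        refine (deltaHom_eq_zero_iff hS g).trans (Iff.trans ?_ (deltaHom_eq_zero_iff hT _).symm)
        constructor
        · rintro ⟨g', rfl⟩
          exact ⟨φ _ g', (hφ _ g').symm⟩
        · rintro ⟨g', hg'⟩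
          refine ⟨(φ _).symm g', (φ _).injective ((hφ _ _).trans ?_)⟩
          exact (congrArg (fun t => t ≫ G.map (injSES F).g) ((φ _).apply_symm_apply g')).trans hg'
      exact ⟨((QuotientAddGroup.quotientKerEquivOfSurjective a ha).symm.trans
        (QuotientAddGroup.quotientAddEquivOfEq hker)).trans
        (QuotientAddGroup.quotientKerEquivOfSurjective b hb)⟩
    | succ m =>
      obtain ⟨e⟩ := ih (injSES F).X₃ (hG F hF).1
      exact ⟨(extShift hS (m + 1) (hX m) (hX (m + 1))).symm.trans
        (e.trans (extShift (X := Y) hT (m + 1) (hY m) (hY (m + 1))))⟩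

end Compare

variable {X : Scheme.{u}}

/-- The Godement presheaf `W ↦ ∏_{V → W} A V` on the etale site. -/
def gdmEt (A : X.Etale → AddCommGrpCat.{u + 1}) : (X.Etale)ᵒᵖ ⥤ AddCommGrpCat.{u + 1} where
  obj W := AddCommGrpCat.of (∀ V : X.Etale, (V ⟶ W.unop) → A V)
  map f := AddCommGrpCat.ofHom
    { toFun := fun s V g => s V (g ≫ f.unop)
      map_zero' := rfl
      map_add' := fun _ _ => rfl }
  map_id W := by
    ext s V g
    simp
  map_comp f g := by
    ext s V h
    simp

/-- The open neighbourhoods of the image of an etale scheme. -/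
abbrev NbhdEt (V : X.Etale) : Type (u + 1) :=
  ULift.{u + 1} {U : (X.Opens)ᵒᵈ // Set.range V.hom ⊆ ((OrderDual.ofDual U : X.Opens) : Set X)}

instance (V : X.Etale) : IsDirected (NbhdEt V) (· ≤ ·) :=
  ⟨fun a b => ⟨⟨⟨OrderDual.toDual (OrderDual.ofDual a.down.1 ⊓ OrderDual.ofDual b.down.1),
    fun _ hx => ⟨a.down.2 hx, b.down.2 hx⟩⟩⟩,
    ((inf_le_left : OrderDual.ofDual a.down.1 ⊓ OrderDual.ofDual b.down.1 ≤ _) :),
    ((inf_le_right : OrderDual.ofDual a.down.1 ⊓ OrderDual.ofDual b.down.1 ≤ _) :)⟩⟩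

instance (V : X.Etale) : Nonempty (NbhdEt V) := ⟨⟨⟨OrderDual.toDual ⊤, fun _ _ => trivial⟩⟩⟩

/-- The neighbourhoods as opens. -/
def nbhdEtFun (V : X.Etale) : NbhdEt V ⥤ (X.Opens)ᵒᵖ where
  obj j := op (OrderDual.ofDual j.down.1)
  map {j j'} h := (homOfLE (show OrderDual.ofDual j'.down.1 ≤ OrderDual.ofDual j.down.1 from
    (leOfHom h :))).op

theorem range_subset_of_homZ {V : X.Etale} {U : X.Opens} (g : V ⟶ (EtZar.zarToEt X).obj U) :
    Set.range V.hom ⊆ (U : Set X) := by
  rintro _ ⟨y, rfl⟩
  rw [← show g.left ≫ U.ι = V.hom from MorphismProperty.Over.w g]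
  exact (g.left y).2

theorem subsingleton_homZ (V : X.Etale) (U : X.Opens) : Subsingleton (V ⟶ (EtZar.zarToEt X).obj U) :=
  ⟨fun g g' => MorphismProperty.Over.Hom.ext ((cancel_mono U.ι).1
    ((MorphismProperty.Over.w g).trans (MorphismProperty.Over.w g').symm))⟩

/-- The Godement presheaf restricted to opens is injective when the values are. -/
theorem injective_gdmEt_res (A : X.Etale → AddCommGrpCat.{u + 1}) [∀ V, Injective (A V)] :
    Injective ((EtZar.zarToEt X).op ⋙ gdmEt A) := by
  refine ⟨fun {P Q} φ g _ => ?_⟩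
  have hc : ∀ (V : X.Etale) (j : NbhdEt V),
      ∃ γ : V ⟶ (EtZar.zarToEt X).obj (OrderDual.ofDual j.down.1), True :=
    fun V j => by
      let U : X.Opens := OrderDual.ofDual j.down.1
      have h : Set.range V.hom ⊆ Set.range U.ι := (Scheme.Opens.range_ι U).symm ▸ j.down.2
      haveI : IsOpenImmersion U.ι := Scheme.Opens.instIsOpenImmersionι U
      exact ⟨MorphismProperty.Over.homMk (IsOpenImmersion.lift U.ι V.hom h)
        (IsOpenImmersion.lift_fac _ _ _), trivial⟩
  choose γ _ using hc
  let ev : ∀ (W : (X.Etale)ᵒᵖ) (V : X.Etale) (h : V ⟶ W.unop), (gdmEt A).obj W ⟶ A V := fun W V h =>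
    AddCommGrpCat.ofHom (AddMonoidHom.mk' (fun s => (s : ∀ V : X.Etale, (V ⟶ W.unop) → A V) V h) fun _ _ => rfl)
  let c : ∀ V, Cocone (nbhdEtFun V ⋙ P) := fun V =>
    { pt := A V
      ι :=
        { app := fun j => φ.app ((nbhdEtFun V).obj j) ≫ ev _ V (γ V j)
          naturality := fun j j' h => by
            ext x
            change ev _ V (γ V j') (φ.app _ (P.map _ x)) = ev _ V (γ V j) (φ.app _ x)
            refine (congrArg (ev _ V (γ V j')) (NatTrans.naturality_apply φ ((nbhdEtFun V).map h) x)).trans ?_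
            exact congrArg (fun t => (show ∀ Z : X.Etale, (Z ⟶ _) → A Z from φ.app ((nbhdEtFun V).obj j) x) V t)
              ((subsingleton_homZ V _).elim _ (γ V j)) } }
  let ψ : ∀ V, colimit (nbhdEtFun V ⋙ P) ⟶ A V := fun V => colimit.desc _ (c V)
  let m : ∀ V, colimit (nbhdEtFun V ⋙ P) ⟶ colimit (nbhdEtFun V ⋙ Q) := fun V =>
    colim.map (Functor.whiskerLeft (nbhdEtFun V) g)
  haveI : ∀ V, Mono (m V) := fun V => by
    haveI : ∀ j, Mono ((Functor.whiskerLeft (nbhdEtFun V) g).app j) := fun j =>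
      inferInstanceAs (Mono (g.app _))
    haveI : Mono (Functor.whiskerLeft (nbhdEtFun V) g) := NatTrans.mono_of_mono_app _
    exact inferInstanceAs (Mono (colim.map (Functor.whiskerLeft (nbhdEtFun V) g)))
  let ψ' : ∀ V, colimit (nbhdEtFun V ⋙ Q) ⟶ A V := fun V => Injective.factorThru (ψ V) (m V)
  let mem : ∀ (W : (X.Opens)ᵒᵖ) (V : X.Etale), (V ⟶ (EtZar.zarToEt X).obj W.unop) → NbhdEt V := fun W V h =>
    ⟨⟨OrderDual.toDual W.unop, range_subset_of_homZ h⟩⟩
  let Φ : Q ⟶ (EtZar.zarToEt X).op ⋙ gdmEt A :=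
    { app := fun W => AddCommGrpCat.ofHom (AddMonoidHom.mk'
        (fun y (V : X.Etale) (h : V ⟶ (EtZar.zarToEt X).obj W.unop) =>
          ψ' V (colimit.ι (nbhdEtFun V ⋙ Q) (mem W V h) y))
        fun x y => funext fun V => funext fun h =>
          map_add (colimit.ι (nbhdEtFun V ⋙ Q) (mem W V h) ≫ ψ' V).hom x y)
      naturality := fun W W' k => by
        ext y
        refine funext fun V => funext fun h => congrArg (ψ' V) ?_
        let hk : mem W V (h ≫ (EtZar.zarToEt X).map k.unop) ⟶ mem W' V h := homOfLE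
          (show mem W V (h ≫ (EtZar.zarToEt X).map k.unop) ≤ mem W' V h from (leOfHom k.unop :))
        exact ConcreteCategory.congr_hom (colimit.w (nbhdEtFun V ⋙ Q) hk) y }
  refine ⟨Φ, ?_⟩
  ext W x
  refine funext fun V => funext fun h => ?_
  change ψ' V (colimit.ι (nbhdEtFun V ⋙ Q) (mem W V h) (g.app W x)) = _
  have h1 : m V (colimit.ι (nbhdEtFun V ⋙ P) (mem W V h) x) =
      colimit.ι (nbhdEtFun V ⋙ Q) (mem W V h) (g.app W x) :=
    ConcreteCategory.congr_hom (ι_colimMap (Functor.whiskerLeft (nbhdEtFun V) g) (mem W V h)) x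
  rw [← h1]
  refine (ConcreteCategory.congr_hom (Injective.comp_factorThru (ψ V) (m V)) _).trans ?_
  refine (ConcreteCategory.congr_hom (colimit.ι_desc (c V) (mem W V h)) x).trans ?_
  exact congrArg (fun t => (show ∀ Z : X.Etale, (Z ⟶ _) → A Z from φ.app W x) V t)
    ((subsingleton_homZ V _).elim (γ V (mem W V h)) h)

variable [EtZar.ZarCont X]

/-- Restriction to the Zariski site preserves injective objects. -/
theorem injective_resZar (I : EtCoh.Ab X) [Injective I] : Injective ((EtZar.resZar X).obj I) := by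
  haveI : Injective I.obj :=
    Injective.injective_of_adjoint (sheafificationAdjunction X.smallEtaleTopology AddCommGrpCat.{u + 1}) I
  let A : X.Etale → AddCommGrpCat.{u + 1} := fun V => Injective.under (I.obj.obj (op V))
  let i : I.obj ⟶ gdmEt A :=
    { app := fun W => AddCommGrpCat.ofHom
        (AddMonoidHom.mk' (fun x (V : X.Etale) (g : V ⟶ W.unop) => Injective.ι (I.obj.obj (op V)) (I.obj.map g.op x))
          (fun x y => funext fun V => funext fun g =>
            map_add (I.obj.map g.op ≫ Injective.ι (I.obj.obj (op V))).hom x y))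
      naturality := fun W W' f => by
        ext x
        exact funext fun V => funext fun g => congrArg (Injective.ι (I.obj.obj (op V)))
          (ConcreteCategory.congr_hom (I.obj.map_comp f g.op) x).symm }
  have : ∀ W, Mono (i.app W) := fun W => (AddCommGrpCat.mono_iff_injective _).2 fun x y hxy => by
    have h := (AddCommGrpCat.mono_iff_injective (Injective.ι (I.obj.obj (op W.unop)))).1 inferInstance
      (congrFun (congrFun hxy W.unop) (𝟙 _))
    exact (ConcreteCategory.congr_hom (I.obj.map_id W) x).symm.trans (h.trans (ConcreteCategory.congr_hom (I.obj.map_id W) y))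
  haveI : Mono i := NatTrans.mono_of_mono_app i
  let r : gdmEt A ⟶ I.obj := Injective.factorThru (𝟙 _) i
  have hr : i ≫ r = 𝟙 _ := Injective.comp_factorThru _ _
  let i' := Functor.whiskerLeft (EtZar.zarToEt X).op i
  let r' := Functor.whiskerLeft (EtZar.zarToEt X).op r
  have hr' : i' ≫ r' = 𝟙 _ := by
    rw [← Functor.whiskerLeft_comp, hr]
    rfl
  haveI := injective_gdmEt_res A
  refine ⟨fun {P Q} φ g _ => ?_⟩
  haveI : Mono g.hom := inferInstanceAs (Mono ((sheafToPresheaf _ _).map g))
  refine ⟨⟨Injective.factorThru (φ.hom ≫ i') g.hom ≫ r'⟩, ?_⟩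
  ext : 1
  refine (Category.assoc _ _ _).symm.trans ?_
  refine (congrArg (fun t => t ≫ r') (Injective.comp_factorThru (φ.hom ≫ i') g.hom)).trans ?_
  exact (Category.assoc _ _ _).trans ((congrArg (fun t => φ.hom ≫ t) hr').trans (Category.comp_id _))

instance additive_resZar : (EtZar.resZar X).Additive := ⟨fun {_ _ _ _} => rfl⟩

instance preservesFiniteLimits_resZar : PreservesFiniteLimits (EtZar.resZar X) := by
  haveI : PreservesFiniteLimits (EtZar.resZar X ⋙ sheafToPresheaf _ AddCommGrpCat.{u + 1}) :=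
    inferInstanceAs (PreservesFiniteLimits (sheafToPresheaf _ AddCommGrpCat.{u + 1} ⋙
      (Functor.whiskeringLeft _ _ _).obj (EtZar.zarToEt X).op))
  exact preservesFiniteLimits_of_reflects_of_preserves (EtZar.resZar X) (sheafToPresheaf _ _)

/-- For strictly henselian local rings, restriction to the Zariski site is exact. -/
theorem preservesHomology_resZar (hX : ∀ x : X, EtCoh.IsStrictlyHenselianLocalRing (X.presheaf.stalk x)) :
    (EtZar.resZar X).PreservesHomology := by
  haveI : (EtZar.resZar X).PreservesEpimorphisms := ⟨fun {F G} a ha => by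
    haveI : Sheaf.IsLocallySurjective a := (Sheaf.isLocallySurjective_iff_epi' _ a).2 ha
    haveI : Sheaf.IsLocallySurjective ((EtZar.resZar X).map a) := ⟨fun {U} z x hx => by
      obtain ⟨V', g, v, hg, hv⟩ := (GrothLib.EtSite.mem_topology_iff _).1
        (Presheaf.imageSieve_mem X.smallEtaleTopology a.hom (U := op ((EtZar.zarToEt X).obj U)) z) ⟨x, hx⟩
      obtain ⟨r, hr⟩ := hg
      haveI : Etale V'.hom := V'.prop
      obtain ⟨V, s, hVmem, hs⟩ := exists_open_section V'.hom v (hX _)
      have hgU : g.left ≫ (Scheme.Opens.ι U) = V'.hom := MorphismProperty.Over.w g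
      have hle : V ≤ U := fun p hp => by
        have e : V'.hom.base (s.base ⟨p, hp⟩) = p :=
          congrArg (fun k : V.toScheme ⟶ X => k.base ⟨p, hp⟩) hs
        rw [← e, ← hgU]
        exact (g.left.base (s.base ⟨p, hp⟩)).2
      have hvx : V'.hom.base v = x := by
        rw [← hgU]
        exact congrArg Subtype.val hv
      refine ⟨V, homOfLE hle, ?_, hvx ▸ hVmem⟩
      let k : (EtZar.zarToEt X).obj V ⟶ V' := MorphismProperty.Over.homMk s hs
      refine ⟨F.obj.map k.op r, ?_⟩
      show a.hom.app _ (F.obj.map k.op r) = G.obj.map ((EtZar.zarToEt X).map (homOfLE hle)).op z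
      refine (NatTrans.naturality_apply a.hom k.op r).trans ?_
      rw [hr, ← (subsingleton_homZ _ _).elim (k ≫ g) ((EtZar.zarToEt X).map (homOfLE hle)), op_comp]
      exact (ConcreteCategory.congr_hom (G.obj.map_comp g.op k.op) z).symm⟩
    exact Sheaf.epi_of_isLocallySurjective _⟩
  exact Functor.preservesHomology_of_preservesEpis_and_kernels _

/-- Etale and Zariski cohomology agree when the local rings are strictly henselian. -/
theorem nonempty_H_resZar_equiv (hX : ∀ x : X, EtCoh.IsStrictlyHenselianLocalRing (X.presheaf.stalk x))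
    (F : EtCoh.Ab X) (n : ℕ) :
    Nonempty (EtCoh.H X F n ≃+ EtZar.H ((EtZar.resZar X).obj F) n) := by
  haveI := preservesHomology_resZar hX
  haveI := (EtZar.resZar X).preservesFiniteColimits_of_preservesHomology
  haveI hι : IsIso (⊤ : X.Opens).ι := inferInstanceAs (IsIso X.topIso.hom)
  let hT' : IsTerminal ((EtZar.zarToEt X).obj ⊤) :=
    (EtCore.topIsTerminal X).ofIso
      (MorphismProperty.Over.isoMk (@asIso _ _ _ _ _ hι).symm (@IsIso.inv_hom_id _ _ _ _ (⊤ : X.Opens).ι hι))
  let hZ : IsTerminal (⊤ : X.Opens) := isTerminalTop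
  let φ : ∀ F : EtCoh.Ab X, ((constantSheaf _ AddCommGrpCat.{u + 1}).obj (AddCommGrpCat.of (ULift ℤ)) ⟶ F) ≃+
      ((constantSheaf _ AddCommGrpCat.{u + 1}).obj (AddCommGrpCat.of (ULift ℤ)) ⟶ (EtZar.resZar X).obj F) :=
    fun F => (Ext.addEquiv₀.symm.trans (Sheaf.H.equiv₀ F hT')).trans
      ((Sheaf.H.equiv₀ ((EtZar.resZar X).obj F) hZ).symm.trans Ext.addEquiv₀)
  exact nonempty_ext_addEquiv_of_class (EtZar.resZar X) _ _ φ (fun _ => True)
    (fun {F F'} g a => by
      obtain ⟨x, rfl⟩ := Ext.addEquiv₀.surjective a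
      rw [← Sheaf.H.addEquiv₀_map]
      change Ext.addEquiv₀ ((Sheaf.H.equiv₀ ((EtZar.resZar X).obj F') hZ).symm
          (Sheaf.H.equiv₀ F' hT' (Ext.addEquiv₀.symm (Ext.addEquiv₀ (Sheaf.H.map g 0 x))))) =
        Ext.addEquiv₀ ((Sheaf.H.equiv₀ ((EtZar.resZar X).obj F) hZ).symm
          (Sheaf.H.equiv₀ F hT' (Ext.addEquiv₀.symm (Ext.addEquiv₀ x)))) ≫ (EtZar.resZar X).map g
      rw [AddEquiv.symm_apply_apply, AddEquiv.symm_apply_apply, ← Sheaf.H.equiv₀_naturality]
      refine Eq.trans (congrArg Ext.addEquiv₀ ?_) (Sheaf.H.addEquiv₀_map _ _)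
      exact (Sheaf.H.equiv₀_symm_naturality hZ ((EtZar.resZar X).map g) _).symm)
    (fun F _ => ⟨trivial, (GrothLib.SheafCoh.injSES_shortExact F).map_of_exact _⟩)
    (fun I hI m => by
      haveI := injective_resZar I
      exact Ext.subsingleton_of_injective _ _ _) n F trivial

end GrothLib.EtDer
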