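import Groth.Agent.Lib.PullH25.Ext
import Mathlib.CategoryTheory.Adjunction.Additive

/-!
# Ext groups along an adjunction of two exact functors
-/

set_option autoImplicit false
universe w w' v v' u u'

open CategoryTheory CategoryTheory.Limits CategoryTheory.Abelian

namespace GrothLib.EtDer

variable {A : Type u} [Category.{v} A] [Abelian A] [EnoughInjectives A] [HasExt.{w} A]
  {B : Type u'} [Category.{v'} B] [Abelian B] [EnoughInjectives B] [HasExt.{w'} B]
  {L : A ⥤ B} {R : B ⥤ A} (adj : L ⊣ R)
  [L.Additive] [PreservesFiniteLimits L] [PreservesFiniteColimits L]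
  [R.Additive] [PreservesFiniteLimits R] [PreservesFiniteColimits R]

/-- Apply the right adjoint, then precompose with the unit. -/
noncomputable def unitMap (X : A) (Y : B) (n : ℕ) : Ext.{w'} (L.obj X) Y n →+ Ext.{w} X (R.obj Y) n :=
  ((Ext.mk₀ (adj.unit.app X)).precomp (R.obj Y) (zero_add n)).comp (R.mapExtAddHom (L.obj X) Y n)

omit [EnoughInjectives A] [EnoughInjectives B] [L.Additive] [PreservesFiniteLimits L] [PreservesFiniteColimits L] in
theorem unitMap_apply (X : A) (Y : B) (n : ℕ) (z : Ext.{w'} (L.obj X) Y n) :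
    unitMap adj X Y n z = (Ext.mk₀ (adj.unit.app X)).comp (z.mapExactFunctor R) (zero_add n) := rfl

theorem bijective_unitMap (X : A) (Y : B) (n : ℕ) : Function.Bijective (unitMap adj X Y n) := by
  haveI : PreservesFiniteLimits (L ⋙ R) := comp_preservesFiniteLimits L R
  haveI : PreservesFiniteColimits (L ⋙ R) := comp_preservesFiniteColimits L R
  haveI : PreservesFiniteLimits (R ⋙ L) := comp_preservesFiniteLimits R L
  haveI : PreservesFiniteColimits (R ⋙ L) := comp_preservesFiniteColimits R L
  refine Function.bijective_iff_has_inverse.2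
    ⟨fun e => (e.mapExactFunctor L).comp (Ext.mk₀ (adj.counit.app Y)) (add_zero n), fun z => ?_, fun e => ?_⟩
  · show ((unitMap adj X Y n z).mapExactFunctor L).comp (Ext.mk₀ (adj.counit.app Y)) (add_zero n) = z
    have h := PullH25.mapExactFunctor_natTrans (𝟭 B) (F := R ⋙ L) adj.counit z
    rw [PullH25.mapExactFunctor_id] at h
    rw [unitMap_apply, Ext.mapExactFunctor_comp, Ext.mapExactFunctor_mk₀,
      PullH25.mapExactFunctor_mapExactFunctor, Ext.comp_assoc_of_third_deg_zero]
    refine (congrArg (fun k => (Ext.mk₀ (L.map (adj.unit.app X))).comp k (zero_add n)) h.symm).trans ?_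
    refine (Ext.mk₀_comp_mk₀_assoc _ _ _).trans ?_
    refine (congrArg (fun k => (Ext.mk₀ k).comp z (zero_add n)) (adj.left_triangle_components X)).trans ?_
    exact Ext.mk₀_id_comp z
  · show unitMap adj X Y n ((e.mapExactFunctor L).comp (Ext.mk₀ (adj.counit.app Y)) (add_zero n)) = e
    have h := PullH25.mapExactFunctor_natTrans (L ⋙ R) (F := 𝟭 A) adj.unit e
    rw [PullH25.mapExactFunctor_id] at h
    rw [unitMap_apply, Ext.mapExactFunctor_comp, Ext.mapExactFunctor_mk₀,
      PullH25.mapExactFunctor_mapExactFunctor, ← Ext.comp_assoc_of_third_deg_zero]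
    refine (congrArg (fun k => Ext.comp k (Ext.mk₀ (R.map (adj.counit.app Y))) (add_zero n)) h).trans ?_
    refine (Ext.comp_assoc_of_second_deg_zero _ _ _ _).trans ?_
    rw [Ext.mk₀_comp_mk₀]
    refine (congrArg (fun k => e.comp (Ext.mk₀ k) (add_zero n)) (adj.right_triangle_components Y)).trans ?_
    exact Ext.comp_mk₀_id e

end GrothLib.EtDer
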