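import Groth.Agent.Lib.EtDer.PullConst
import Groth.Agent.Lib.EtDer.ExtUnit
import Groth.Agent.Lib.EssEtLoc.IntermediateTools
import Groth.Agent.Lib.Hensel.Henselization
import Groth.Agent.Lib.EtSite.HVanish
import Groth.Agent.Lib.EtSite.PushExact
import Groth.Agent.Lib.EtSite.BaseChange
import Groth.Agent.Lib.EtSite.ZeroDim
import Groth.Agent.Lib.PropH0.EtH0
import Mathlib.AlgebraicGeometry.Morphisms.Integral

/-!
# Etale cohomology of henselian local schemes and of their closed point
-/

set_option autoImplicit false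
set_option backward.isDefEq.respectTransparency false
universe u

open CategoryTheory CategoryTheory.Limits CategoryTheory.Abelian AlgebraicGeometry Opposite

noncomputable section

namespace GrothLib.EtDer

variable {X Y : Scheme.{u}}

theorem isZero_of_pull_surjective (q : X ⟶ Y) [Surjective q] (K : EtCoh.Ab Y)
    (h : IsZero ((EtCoh.pull q).obj K)) : IsZero K := by
  have key : ∀ (U : Y.Etale) (s : EtCoh.sect K U), s = 0 := by
    intro U s
    let R : Sieve U :=
      { arrows := fun V g => K.obj.map g.op s = 0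
        downward_closed := by
          intro V W g hg k
          rw [op_comp, Functor.map_comp, ConcreteCategory.comp_apply, hg, map_zero] }
    have hR : R ∈ Y.smallEtaleTopology U := by
      rw [GrothLib.EtSite.mem_topology_iff]
      intro u
      obtain ⟨x, hx⟩ := q.surjective (U.hom.base u)
      let ξ := GrothLib.EtSite.gac x
      have hu : U.hom.base u = (ξ ≫ q).base default := by
        rw [Scheme.Hom.comp_apply, GrothLib.EtSite.gac_default, hx]
      obtain ⟨t, ht⟩ := GrothLib.EtSite.exists_fib (ξ ≫ q) u hu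
      have hz : IsZero ((EtCoh.stalk (ξ ≫ q)).obj K) :=
        ((EtCoh.stalk ξ).map_isZero h).of_iso ((GrothLib.EtSite.pullStalkIso ξ q).app K).symm
      obtain ⟨V, g, v, hv, hg⟩ := GrothLib.EtSite.eq_zero_nhd _ K t s
        (@Subsingleton.elim _ (AddCommGrpCat.subsingleton_of_isZero hz) _ _)
      exact ⟨V, g, v, hg, hv.trans ht⟩
    exact (((isSheaf_iff_isSheaf_of_type _ _).1
      ((sheafCompose Y.smallEtaleTopology (forget AddCommGrpCat.{u + 1})).obj K).property) R hR).isSeparatedFor.ext
        fun V g hg => (show K.obj.map g.op s = 0 from hg).trans (map_zero (K.obj.map g.op).hom).symm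
  rw [IsZero.iff_id_eq_zero]
  ext U s
  exact key U.unop s

theorem mono_unit_of_surjective (q : X ⟶ Y) [Surjective q] (G : EtCoh.Ab Y) :
    Mono ((EtCoh.pullPushAdj q).unit.app G) := by
  haveI := GrothLib.EtSite.pull_preservesFiniteLimits q
  let η := (EtCoh.pullPushAdj q).unit.app G
  have hK : IsZero ((EtCoh.pull q).obj (kernel η)) := by
    haveI : Mono ((EtCoh.pull q).map η) :=
      (SplitMono.mk ((EtCoh.pullPushAdj q).counit.app _) ((EtCoh.pullPushAdj q).left_triangle_components G)).mono
    haveI : (EtCoh.pull q).PreservesMonomorphisms := preservesMonomorphisms_of_preservesLimitsOfShape _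
    have e : (EtCoh.pull q).map (kernel.ι η) = 0 := by
      rw [← cancel_mono ((EtCoh.pull q).map η), ← Functor.map_comp, kernel.condition, Functor.map_zero, zero_comp]
    exact IsZero.of_mono_eq_zero _ e
  exact Preadditive.mono_of_kernel_zero ((isZero_of_pull_surjective q _ hK).eq_of_src _ _)

/-- Cohomology of a direct image along an integral morphism. -/
theorem subsingleton_H_push (f : X ⟶ Y) [IsIntegralHom f] (G : EtCoh.Ab X) (n : ℕ)
    (h : Subsingleton (EtCoh.H X G n)) : Subsingleton (EtCoh.H Y ((EtCoh.push f).obj G) n) := by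
  haveI := GrothLib.EtSite.pull_preservesFiniteLimits f
  haveI := GrothLib.EtSite.preservesFiniteColimits_push f
  haveI : (EtCoh.push f).Additive := (EtCoh.pullPushAdj f).right_adjoint_additive
  haveI : PreservesLimitsOfSize.{0, 0} (EtCoh.push f) := (EtCoh.pullPushAdj f).rightAdjoint_preservesLimits
  haveI : PreservesFiniteLimits (EtCoh.push f) := PreservesLimitsOfSize.preservesFiniteLimits _
  haveI : Subsingleton (Ext.{u + 1} ((EtCoh.pull f).obj (EtCoh.const Y ℤ)) G n) := ⟨fun a b => by
    have : ∀ c : Ext.{u + 1} ((EtCoh.pull f).obj (EtCoh.const Y ℤ)) G n, c = 0 := fun c => by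
      have h0 : (Ext.mk₀ (EtCore.pullConst f ℤ).inv).comp c (zero_add n) = 0 := @Subsingleton.elim _ h _ _
      have := congrArg (fun k => (Ext.mk₀ (EtCore.pullConst f ℤ).hom).comp k (zero_add n)) h0
      simp only [Ext.mk₀_comp_mk₀_assoc, Iso.hom_inv_id, Ext.comp_zero] at this
      exact (Ext.mk₀_id_comp c).symm.trans this
    rw [this a, this b]⟩
  exact (bijective_unitMap (EtCoh.pullPushAdj f) (EtCoh.const Y ℤ) G n).2.subsingleton

theorem Hpull_apply' (f : X ⟶ Y) [PreservesFiniteLimits (EtCoh.pull f)] (G : EtCoh.Ab Y)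
    (n : ℕ) (y : EtCoh.H Y G n) :
    EtCore.Hpull f G n y = (Ext.mk₀ (EtCore.pullConst f ℤ).inv).comp (y.mapExactFunctor (EtCoh.pull f)) (zero_add n) :=
  rfl

theorem Hpull_zero_bijective (f : X ⟶ Y) [PreservesFiniteLimits (EtCoh.pull f)] (F : EtCoh.Ab Y)
    (h : Function.Bijective (((EtCoh.pullPushAdj f).unit.app F).hom.app (op (EtCoh.top Y)))) :
    Function.Bijective (EtCore.Hpull f F 0) := by
  let M : AddCommGrpCat.{u + 1} := AddCommGrpCat.of (ULift.{u + 1} ℤ)
  let m : (EtCore.gsec Y).obj F ⟶ (EtCore.gsec X).obj ((EtCoh.pull f).obj F) :=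
    (EtCore.gsec Y).map ((EtCoh.pullPushAdj f).unit.app F) ≫ (EtCore.pushGsecIso f).hom.app _
  haveI : IsIso ((EtCore.gsec Y).map ((EtCoh.pullPushAdj f).unit.app F)) :=
    (ConcreteCategory.isIso_iff_bijective _).2 h
  haveI : IsIso m := inferInstanceAs (IsIso ((EtCore.gsec Y).map ((EtCoh.pullPushAdj f).unit.app F) ≫ (EtCore.pushGsecIso f).hom.app ((EtCoh.pull f).obj F)))
  let T : (EtCoh.const Y ℤ ⟶ F) → (EtCoh.const X ℤ ⟶ (EtCoh.pull f).obj F) := fun g =>
    (EtCore.pullConst f ℤ).inv ≫ (EtCoh.pull f).map g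
  have hT : ∀ g, ((EtCore.constAdj X).homEquiv M _) (T g) = ((EtCore.constAdj Y).homEquiv M _) g ≫ m := by
    intro g
    have n1 := (EtCore.pushGsecIso f).hom.naturality ((EtCoh.pull f).map g)
    have n2 := (EtCoh.pullPushAdj f).unit.naturality g
    simp only [Functor.comp_map, Functor.id_map] at n1 n2
    simp only [Adjunction.homEquiv_unit, T, Functor.map_comp]
    refine ((reassoc_of% (unit_pullConst f M)) _).trans ?_
    refine (congrArg (fun a => (EtCore.constAdj Y).unit.app M ≫ (EtCore.gsec Y).map _ ≫ a) n1.symm).trans ?_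
    rw [← Functor.map_comp_assoc, ← n2, Functor.map_comp_assoc]
    simp only [Category.assoc, m]
  have hbT : Function.Bijective T := by
    have : T = fun g => ((EtCore.constAdj X).homEquiv M _).symm (((EtCore.constAdj Y).homEquiv M _) g ≫ m) :=
      funext fun g => by rw [← hT, Equiv.symm_apply_apply]
    rw [this]
    exact ((EtCore.constAdj X).homEquiv M _).symm.bijective.comp
      (((asIso m).homToEquiv.bijective).comp ((EtCore.constAdj Y).homEquiv M _).bijective)
  have e : ∀ g, EtCore.Hpull f F 0 (Ext.mk₀ g) = Ext.mk₀ (T g) := fun g => by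
    rw [Hpull_apply', Ext.mapExactFunctor_mk₀, Ext.mk₀_comp_mk₀]
  have h1 : (EtCore.Hpull f F 0 : _ → _) = fun x => Ext.mk₀ (T (Ext.homEquiv₀ x)) := funext fun x => by
    rw [← e, Ext.mk₀_homEquiv₀_apply]
  rw [h1]
  exact (Ext.mk₀_bijective _ _).comp (hbT.comp Ext.homEquiv₀.bijective)

theorem Hpull_extClass (f : X ⟶ Y) [PreservesFiniteLimits (EtCoh.pull f)] {S : ShortComplex (EtCoh.Ab Y)}
    (hS : S.ShortExact) (n : ℕ) (y : EtCoh.H Y S.X₃ n) :
    EtCore.Hpull f S.X₁ (n + 1) (Ext.comp y hS.extClass rfl) =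
      Ext.comp (EtCore.Hpull f S.X₃ n y) (hS.map_of_exact (EtCoh.pull f)).extClass rfl := by
  rw [Hpull_apply', Hpull_apply', Ext.mapExactFunctor_comp, Ext.mapExactFunctor_extClass,
    ← Ext.comp_assoc _ _ _ (zero_add n) rfl (by omega)]

theorem Hpull_mk₀ (f : X ⟶ Y) [PreservesFiniteLimits (EtCoh.pull f)] {F G : EtCoh.Ab Y}
    (g : F ⟶ G) (n : ℕ) (y : EtCoh.H Y F n) :
    EtCore.Hpull f G n (Ext.comp y (Ext.mk₀ g) (add_zero n)) =
      Ext.comp (EtCore.Hpull f F n y) (Ext.mk₀ ((EtCoh.pull f).map g)) (add_zero n) := by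
  rw [Hpull_apply', Hpull_apply', Ext.mapExactFunctor_comp, Ext.mapExactFunctor_mk₀,
    ← Ext.comp_assoc_of_third_deg_zero]

theorem isPushout_residue (A S : Type u) [CommRing A] [IsLocalRing A] [CommRing S] [IsLocalRing S]
    [Algebra A S] [IsLocalHom (algebraMap A S)]
    (h : (IsLocalRing.maximalIdeal A).map (algebraMap A S) = IsLocalRing.maximalIdeal S) :
    IsPushout (CommRingCat.ofHom (IsLocalRing.residue A)) (CommRingCat.ofHom (algebraMap A S))
      (CommRingCat.ofHom (algebraMap (IsLocalRing.ResidueField A) (IsLocalRing.ResidueField S)))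
      (CommRingCat.ofHom (IsLocalRing.residue S)) := by
  have hw : CommRingCat.ofHom (IsLocalRing.residue A) ≫
      CommRingCat.ofHom (algebraMap (IsLocalRing.ResidueField A) (IsLocalRing.ResidueField S)) =
      CommRingCat.ofHom (algebraMap A S) ≫ CommRingCat.ofHom (IsLocalRing.residue S) := by
    ext x; rfl
  refine ⟨⟨hw⟩, ⟨PushoutCocone.IsColimit.mk hw
    (fun c => CommRingCat.ofHom (Ideal.Quotient.lift (IsLocalRing.maximalIdeal S) c.inr.hom ?_)) ?_ ?_ ?_⟩⟩
  · intro x hx
    rw [← h] at hx
    have : (IsLocalRing.maximalIdeal A).map (algebraMap A S) ≤ RingHom.ker c.inr.hom := by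
      refine Ideal.map_le_iff_le_comap.2 fun a ha => ?_
      have e := ConcreteCategory.congr_hom c.condition a
      show c.inr.hom (algebraMap A S a) = 0
      refine e.symm.trans ?_
      show c.inl.hom (IsLocalRing.residue A a) = 0
      rw [(IsLocalRing.residue_eq_zero_iff a).2 ha, map_zero]
    exact this hx
  · intro c
    ext x
    obtain ⟨a, rfl⟩ := IsLocalRing.residue_surjective x
    exact (ConcreteCategory.congr_hom c.condition a).symm
  · intro c
    ext x
    rfl
  · intro c m h1 h2
    ext x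
    obtain ⟨a, rfl⟩ := IsLocalRing.residue_surjective x
    exact ConcreteCategory.congr_hom h2 a

/-- A natural criterion for `Hpull` to be bijective in all degrees. -/
theorem Hpull_bijective_of_effaceable (f : X ⟶ Y) [PreservesFiniteLimits (EtCoh.pull f)]
    (h0 : ∀ F, Function.Bijective (EtCore.Hpull f F 0))
    (he : ∀ F : EtCoh.Ab Y, ∃ (F' : EtCoh.Ab Y) (i : F ⟶ F'), Mono i ∧
      ∀ p : ℕ, Subsingleton (EtCoh.H Y F' (p + 1)) ∧ Subsingleton (EtCoh.H X ((EtCoh.pull f).obj F') (p + 1))) :
    ∀ (n : ℕ) (F : EtCoh.Ab Y), Function.Bijective (EtCore.Hpull f F n) := by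
  intro n
  induction n with
  | zero => exact h0
  | succ n ih =>
    intro F
    obtain ⟨F', i, _, hi⟩ := he F
    let S : ShortComplex (EtCoh.Ab Y) := ShortComplex.mk i (cokernel.π i) (cokernel.condition _)
    have hS : S.ShortExact := { exact := ShortComplex.exact_of_g_is_cokernel _ (cokernelIsCokernel _) }
    have hS' := hS.map_of_exact (EtCoh.pull f)
    refine ⟨(injective_iff_map_eq_zero _).2 fun x hx => ?_, fun z => ?_⟩
    · obtain ⟨y, rfl⟩ := Ext.covariant_sequence_exact₁ _ hS x (@Subsingleton.elim _ (hi n).1 _ _) rfl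
      replace hx := (Hpull_extClass f hS n y).symm.trans hx
      obtain ⟨w, hw⟩ := Ext.covariant_sequence_exact₃ _ hS' (EtCore.Hpull f S.X₃ n y) rfl hx
      obtain ⟨w', rfl⟩ := (ih S.X₂).2 w
      have : y = Ext.comp w' (Ext.mk₀ S.g) (add_zero n) :=
        (ih S.X₃).1 (hw.symm.trans (Hpull_mk₀ f S.g n w').symm)
      rw [this, Ext.comp_assoc_of_second_deg_zero, hS.comp_extClass, Ext.comp_zero]
    · obtain ⟨y', rfl⟩ := Ext.covariant_sequence_exact₁ _ hS' z (@Subsingleton.elim _ (hi n).2 _ _) rfl
      obtain ⟨y, rfl⟩ := (ih S.X₃).2 y'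
      exact ⟨Ext.comp y hS.extClass rfl, Hpull_extClass f hS n y⟩

/-- Restriction to the closed point of a henselian local ring is bijective on cohomology. -/
theorem Hpull_residue_bijective (A : Type u) [CommRing A] [HenselianLocalRing A]
    [PreservesFiniteLimits (EtCoh.pull (Spec.map (CommRingCat.ofHom (IsLocalRing.residue A))))]
    (F : EtCoh.Ab (Spec (CommRingCat.of A))) (n : ℕ) :
    Function.Bijective (EtCore.Hpull (Spec.map (CommRingCat.ofHom (IsLocalRing.residue A))) F n) := by
  let i := Spec.map (CommRingCat.ofHom (IsLocalRing.residue A))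
  refine Hpull_bijective_of_effaceable i (fun G => Hpull_zero_bijective i G ?_) (fun G => ?_) n F
  · haveI : IsClosedImmersion i := IsClosedImmersion.spec_of_surjective _ IsLocalRing.residue_surjective
    haveI : HenselianRing A (IsLocalRing.maximalIdeal A) := inferInstance
    exact GrothLib.PropH0.unit_top_bijective i
      (GrothLib.PropH0.connOnIntegral_of_proper i (IsLocalRing.maximalIdeal A) (𝟙 _)
        (GrothLib.PropH0.range_specMap_quotient (IsLocalRing.maximalIdeal A))) G
  · let S := GrothLib.Hensel.StrictHens A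
    haveI hS : _root_.Hensel.IsStrictHenselization A S := inferInstance
    haveI := hS.henselian
    haveI := GrothLib.Hensel.IsStrictHenselization.faithfullyFlat (R := A) (S := S)
    haveI hint : Algebra.IsIntegral A S := ⟨GrothLib.EssEtLoc.isIntegral_strictHenselization⟩
    haveI : IsSepClosed (IsLocalRing.ResidueField S) :=
      haveI := hS.isSepClosure
      IsSepClosure.sep_closed (IsLocalRing.ResidueField A)
    let q := Spec.map (CommRingCat.ofHom (algebraMap A S))
    haveI : IsIntegralHom q := IsIntegralHom.SpecMap_iff.2 hint.1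
    haveI : Surjective q := ⟨PrimeSpectrum.comap_surjective_of_faithfullyFlat⟩
    let F' := (EtCoh.push q).obj ((EtCoh.pull q).obj G)
    refine ⟨F', (EtCoh.pullPushAdj q).unit.app G, mono_unit_of_surjective q G, fun p => ⟨?_, ?_⟩⟩
    · exact subsingleton_H_push q _ _
        (GrothLib.EtSite.subsingleton_H_strictlyHenselian S _ (p + 1) (by omega))
    · let j := Spec.map (CommRingCat.ofHom (IsLocalRing.residue S))
      haveI : IsSepClosed (IsLocalRing.ResidueField (IsLocalRing.ResidueField S)) :=
        GrothLib.EtSite.isSepClosed_of_surjective (IsLocalRing.residue _) IsLocalRing.residue_surjective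
      let p₀ := Spec.map (CommRingCat.ofHom (algebraMap (IsLocalRing.ResidueField A) (IsLocalRing.ResidueField S)))
      have sq : IsPullback j p₀ q i :=
        (isPullback_SpecMap_of_isPushout _ _ _ _ (isPushout_residue A S
          GrothLib.Hensel.IsStrictHenselization.map_maximalIdeal)).flip
      haveI := GrothLib.EtSite.isIso_baseChange0_of_integral sq ((EtCoh.pull q).obj G)
      haveI : IsIntegralHom p₀ := MorphismProperty.of_isPullback sq (inferInstanceAs (IsIntegralHom q))
      haveI : Subsingleton ((EtCoh.HF (Spec (CommRingCat.of (IsLocalRing.ResidueField A))) (p + 1)).obj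
          ((EtCoh.push p₀).obj ((EtCoh.pull j).obj ((EtCoh.pull q).obj G))) :) :=
        subsingleton_H_push p₀ _ (p + 1)
          (GrothLib.EtSite.subsingleton_H_strictlyHenselian (IsLocalRing.ResidueField S) _ (p + 1) (by omega))
      exact ((EtCoh.HF _ (p + 1)).mapIso
        (asIso (EtCoh.baseChange0 q i p₀ j sq.w ((EtCoh.pull q).obj G)))).addCommGroupIsoToAddEquiv.toEquiv.subsingleton

end GrothLib.EtDer
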