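import Groth.Agent.Lib.EtDer.HpullComp
import Groth.Agent.Lib.EtBasicB.Supports
import Groth.Prelude.Def_EtAcyc

/-!
# Acyclic morphisms and composition
-/

set_option autoImplicit false
set_option backward.isDefEq.respectTransparency false
universe u

open CategoryTheory CategoryTheory.Limits CategoryTheory.Abelian AlgebraicGeometry Opposite

noncomputable section

namespace GrothLib.EtDer

variable {X Y Z : Scheme.{u}}

/-- Inverse images of `L`-torsion sheaves are `L`-torsion. -/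
theorem isLTorsion_pull (f : X ⟶ Y) (L : Set ℕ) {F : EtCoh.Ab Y} (hF : EtAcyc.IsLTorsion L F) :
    EtAcyc.IsLTorsion L ((EtCoh.pull f).obj F) := by
  refine (GrothLib.EtBasicB.isLTorsion_iff_stalks L _).2 fun Ω _ _ ξ a => ?_
  let e := ((GrothLib.EtSite.pullStalkIso ξ f).app F).addCommGroupIsoToAddEquiv
  obtain ⟨m, hm, h⟩ := (GrothLib.EtBasicB.isLTorsion_iff_stalks L F).1 hF Ω (ξ ≫ f) (e a)
  exact ⟨m, hm, e.injective (by rw [map_nsmul, map_zero]; exact h)⟩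

theorem compN_of_isIso (σ : X ⟶ Y) [IsIso σ] (L : Set ℕ) (n : ℕ) : EtAcyc.CompN σ L n :=
  fun F _ _ => ⟨fun q _ => bijective_Hpull_of_isIso σ F q, (bijective_Hpull_of_isIso σ F _).1⟩

theorem compN_comp {f : X ⟶ Y} {t : Y ⟶ Z} {f₀ : X ⟶ Z} (w : f ≫ t = f₀) {L : Set ℕ} {n : ℕ}
    (hf : EtAcyc.CompN f L n) (ht : EtAcyc.CompN t L n) : EtAcyc.CompN f₀ L n := by
  intro F hF _
  haveI := pullFL f; haveI := pullFL t
  have h1 := hf _ (isLTorsion_pull t L hF)
  have h2 := ht F hF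
  exact ⟨fun q hq => bijective_Hpull_comp f t f₀ w F q (h2.1 q hq) (h1.1 q hq),
    injective_Hpull_comp f t f₀ w F _ h2.2 h1.2⟩

theorem compN_of_comp {f : X ⟶ Y} {t : Y ⟶ Z} {f₀ : X ⟶ Z} (w : f ≫ t = f₀) {L : Set ℕ} {n : ℕ}
    (hf : EtAcyc.CompN f L n) (h : EtAcyc.CompN f₀ L n) : EtAcyc.CompN t L n := by
  intro F hF _
  haveI := pullFL f; haveI := pullFL f₀
  have h1 := hf _ (isLTorsion_pull t L hF)
  have h2 := h F hF
  refine ⟨fun q hq => ⟨injective_of_Hpull_comp f t f₀ w F q (h2.1 q hq).1, fun z => ?_⟩,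
    injective_of_Hpull_comp f t f₀ w F _ h2.2⟩
  obtain ⟨x, hx⟩ := (h2.1 q hq).2 (EtCore.HpullVia f t f₀ w F q z)
  refine ⟨x, (h1.1 q hq).1 ((bijective_comp_mk₀ (((EtCore.pullComp f t).symm ≪≫
    EtCore.pullCongr w).app F) q).1 ?_)⟩
  exact (congrFun (bijective_Hpull_comp_iff f t f₀ w F q) x).symm.trans
    (hx.trans (MV.HpullVia_apply f t f₀ w F q z))

/-- The unit of inverse and direct image of sheaves of sets along a composite. -/
theorem unit_pullCompSh (f : X ⟶ Y) (t : Y ⟶ Z) (F : EtDesc.Sh Z) :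
    (EtDesc.adjSh (f ≫ t)).unit.app F ≫ (EtDesc.pushSh (f ≫ t)).map ((EtDesc.pullCompSh f t).hom.app F) =
      (EtDesc.adjSh t).unit.app F ≫ (EtDesc.pushSh t).map ((EtDesc.adjSh f).unit.app _) ≫
        (EtDesc.pushCompSh t f).hom.app _ := by
  have h := Adjunction.unit_leftAdjointUniq_hom_app (EtDesc.adjSh (f ≫ t))
    (((EtDesc.adjSh t).comp (EtDesc.adjSh f)).ofNatIsoRight (EtDesc.pushCompSh t f)) F
  rw [EtDesc.pullCompSh]
  refine h.trans ?_
  simp [Adjunction.ofNatIsoRight, Adjunction.comp]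

theorem isIso_unitSh_comp_iff {f : X ⟶ Y} {t : Y ⟶ Z} {f₀ : X ⟶ Z} (w : f ≫ t = f₀) (F : EtDesc.Sh Z)
    [IsIso ((EtDesc.adjSh f).unit.app ((EtDesc.pullSh t).obj F))] :
    IsIso ((EtDesc.adjSh f₀).unit.app F) ↔ IsIso ((EtDesc.adjSh t).unit.app F) := by
  subst w
  have h := unit_pullCompSh f t F
  constructor
  · intro
    haveI : IsIso ((EtDesc.adjSh t).unit.app F ≫ (EtDesc.pushSh t).map ((EtDesc.adjSh f).unit.app _) ≫
        (EtDesc.pushCompSh t f).hom.app _) := by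
      rw [← h]; infer_instance
    exact IsIso.of_isIso_comp_right _ ((EtDesc.pushSh t).map ((EtDesc.adjSh f).unit.app _) ≫
        (EtDesc.pushCompSh t f).hom.app _)
  · intro
    haveI : IsIso ((EtDesc.adjSh (f ≫ t)).unit.app F ≫
        (EtDesc.pushSh (f ≫ t)).map ((EtDesc.pullCompSh f t).hom.app F)) := by
      rw [h]; infer_instance
    exact IsIso.of_isIso_comp_right _ ((EtDesc.pushSh (f ≫ t)).map ((EtDesc.pullCompSh f t).hom.app F))

/-- Direct image of sheaves of sets along the identity. -/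
def pushShIdIso (X : Scheme.{u}) : EtDesc.pushSh (𝟙 X) ≅ 𝟭 (EtDesc.Sh X) :=
  Functor.sheafPushforwardContinuousId' (bcIdIso X) _ _

theorem isIso_unitSh_of_isIso (σ : X ⟶ Y) [IsIso σ] (F : EtDesc.Sh Y) :
    IsIso ((EtDesc.adjSh σ).unit.app F) := by
  let e : EtDesc.Sh X ≌ EtDesc.Sh Y := CategoryTheory.Equivalence.mk (EtDesc.pushSh σ) (EtDesc.pushSh (inv σ))
    ((pushShIdIso X).symm ≪≫ eqToIso (by rw [IsIso.hom_inv_id σ]) ≪≫ (EtDesc.pushCompSh (inv σ) σ).symm)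
    ((EtDesc.pushCompSh σ (inv σ)) ≪≫ eqToIso (by rw [IsIso.inv_hom_id σ]) ≪≫ pushShIdIso Y)
  haveI : (EtDesc.pushSh σ).IsEquivalence := e.isEquivalence_functor
  haveI : (EtDesc.pullSh σ).IsEquivalence := (EtDesc.adjSh σ).isEquivalence_left_of_isEquivalence_right
  infer_instance

/-- The base change of an etale scheme along `h`, as an etale scheme. -/
abbrev bcObj (h : Y ⟶ Z) (V : Z.Etale) : Y.Etale := (EtCoh.bc h).obj V

/-- The projection of a composite base change. -/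
theorem prj_comp (g : X ⟶ Y) (h : Y ⟶ Z) (V : Z.Etale) :
    (pullbackLeftPullbackSndIso V.hom h g).inv ≫ EtAcyc.prj g (bcObj h V) ≫ EtAcyc.prj h V =
      EtAcyc.prj (g ≫ h) V :=
  pullbackLeftPullbackSndIso_inv_fst V.hom h g

theorem isAcyclicN_comp_iff (g : X ⟶ Y) (h : Y ⟶ Z) (L : Set ℕ) (n : ℕ) (hg : EtAcyc.IsAcyclicN g L n) :
    EtAcyc.IsAcyclicN h L n ↔ EtAcyc.IsAcyclicN (g ≫ h) L n := by
  have hσ : ∀ V : Z.Etale, EtAcyc.CompN ((pullbackLeftPullbackSndIso V.hom h g).inv ≫ EtAcyc.prj g (bcObj h V)) L n :=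
    fun V => compN_comp rfl (compN_of_isIso (pullbackLeftPullbackSndIso V.hom h g).inv L n) (hg (bcObj h V))
  exact ⟨fun hh V => compN_comp ((Category.assoc _ _ _).trans (prj_comp g h V)) (hσ V) (hh V),
    fun hgh V => compN_of_comp ((Category.assoc _ _ _).trans (prj_comp g h V)) (hσ V) (hgh V)⟩

theorem isZeroAcyclic_comp_iff (g : X ⟶ Y) (h : Y ⟶ Z) (hg : EtAcyc.IsZeroAcyclic g) :
    EtAcyc.IsZeroAcyclic h ↔ EtAcyc.IsZeroAcyclic (g ≫ h) := by
  have hσ : ∀ (V : Z.Etale) (G : EtDesc.Sh (bcObj h V).left), IsIso ((EtDesc.adjSh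
      ((pullbackLeftPullbackSndIso V.hom h g).inv ≫ EtAcyc.prj g (bcObj h V))).unit.app G) := fun V G => by
    have hi := isIso_unitSh_of_isIso (pullbackLeftPullbackSndIso V.hom h g).inv
      ((EtDesc.pullSh (EtAcyc.prj g (bcObj h V))).obj G)
    exact (@isIso_unitSh_comp_iff _ _ _ (pullbackLeftPullbackSndIso V.hom h g).inv
      (EtAcyc.prj g (bcObj h V)) _ rfl G hi).2 (hg (bcObj h V) G)
  refine ⟨fun hh V F => ?_, fun hgh V F => ?_⟩
  · haveI := hσ V ((EtDesc.pullSh (EtAcyc.prj h V)).obj F)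
    exact (isIso_unitSh_comp_iff ((Category.assoc _ _ _).trans (prj_comp g h V)) F).2 (hh V F)
  · haveI := hσ V ((EtDesc.pullSh (EtAcyc.prj h V)).obj F)
    exact (isIso_unitSh_comp_iff ((Category.assoc _ _ _).trans (prj_comp g h V)) F).1 (hgh V F)

end GrothLib.EtDer
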