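import Groth.Agent.Lib.ExtZero.Open
import Groth.Agent.Lib.Constructible.ExtZero
import Groth.Agent.Lib.EtSite.Pull
import Mathlib.Algebra.Homology.DerivedCategory.Ext.EnoughInjectives

/-!
# Injective etale sheaves under direct and etale inverse image
-/

set_option autoImplicit false
universe u

open CategoryTheory CategoryTheory.Limits AlgebraicGeometry Opposite

namespace GrothLib.EtDer

variable {X Y : Scheme.{u}}

theorem injective_push (f : X ⟶ Y) (I : EtCoh.Ab X) [Injective I] : Injective ((EtCoh.push f).obj I) :=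
  haveI := GrothLib.EtSite.pull_preservesFiniteLimits f
  haveI : (EtCoh.pull f).PreservesMonomorphisms := preservesMonomorphisms_of_preservesLimitsOfShape _
  Injective.injective_of_adjoint (EtCoh.pullPushAdj f) I

theorem injective_pull_etale (j : X ⟶ Y) [Etale j] (I : EtCoh.Ab Y) [Injective I] :
    Injective ((EtCoh.pull j).obj I) :=
  haveI := GrothLib.Constructible.jcont j
  haveI := GrothLib.ExtZero.preservesFiniteLimits_extZero j
  haveI : (EtShriek.extZero j).PreservesMonomorphisms := preservesMonomorphisms_of_preservesLimitsOfShape _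
  haveI : Injective ((EtShriek.restrAlong j).obj I) := Injective.injective_of_adjoint (EtShriek.extZeroAdj j) I
  Injective.of_iso ((GrothLib.ExtZero.restrIsoPull j).app I) this

theorem subsingleton_H_of_injective (I : EtCoh.Ab X) [Injective I] (q : ℕ) (hq : 1 ≤ q) :
    Subsingleton (EtCoh.H X I q) := by
  obtain ⟨n, rfl⟩ : ∃ n, q = n + 1 := ⟨q - 1, by omega⟩
  exact Abelian.Ext.subsingleton_of_injective _ _ _

theorem isZero_Rpush_of_injective (g : X ⟶ Y) (I : EtCoh.Ab X) [Injective I] (q : ℕ) (hq : 1 ≤ q) :
    IsZero ((EtCoh.Rpush g q).obj I) := by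
  obtain ⟨n, rfl⟩ : ∃ n, q = n + 1 := ⟨q - 1, by omega⟩
  exact Functor.isZero_rightDerived_obj_injective_succ (EtCoh.push g) n I

end GrothLib.EtDer
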