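import Groth.Agent.Lib.EtDer.MV
import Groth.Agent.Lib.EtDer.Henselian

/-!
# Functoriality of pullback on cohomology
-/

set_option autoImplicit false
set_option backward.isDefEq.respectTransparency false
universe u

open CategoryTheory CategoryTheory.Limits CategoryTheory.Abelian AlgebraicGeometry Opposite

noncomputable section

namespace GrothLib.EtDer

variable {X Y Z : Scheme.{u}}

/-- Transport along an isomorphism of coefficients is bijective. -/
theorem bijective_comp_mk₀ {A G G' : EtCoh.Ab X} (e : G ≅ G') (n : ℕ) :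
    Function.Bijective (fun x : Ext.{u + 1} A G n => Ext.comp x (Ext.mk₀ e.hom) (add_zero n)) := by
  refine Function.bijective_iff_has_inverse.2 ⟨fun y => Ext.comp y (Ext.mk₀ e.inv) (add_zero n),
    fun x => ?_, fun y => ?_⟩ <;> simp [Ext.comp_assoc_of_third_deg_zero]

/-- Pullback along a composite. -/
theorem HpullVia_Hpull (f : X ⟶ Y) (t : Y ⟶ Z) (f₀ : X ⟶ Z) (w : f ≫ t = f₀)
    [PreservesFiniteLimits (EtCoh.pull f)] [PreservesFiniteLimits (EtCoh.pull t)]
    [PreservesFiniteLimits (EtCoh.pull f₀)] (G : EtCoh.Ab Z) (n : ℕ) (x : EtCoh.H Z G n) :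
    EtCore.HpullVia f t f₀ w G n (EtCore.Hpull t G n x) = EtCore.Hpull f₀ G n x := by
  rw [MV.HpullVia_apply, MV.Hpull_apply, MV.Hpull_apply, MV.Hpull_apply, MV.HpullVia_comp f t f₀ w,
    pullConst_comp f t f₀ w ℤ]

/-- Pullback along a composite is bijective iff pullback along the first morphism is, after one that is. -/
theorem bijective_Hpull_comp_iff (f : X ⟶ Y) (t : Y ⟶ Z) (f₀ : X ⟶ Z) (w : f ≫ t = f₀)
    [PreservesFiniteLimits (EtCoh.pull f)] [PreservesFiniteLimits (EtCoh.pull t)]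
    [PreservesFiniteLimits (EtCoh.pull f₀)] (G : EtCoh.Ab Z) (n : ℕ) :
    (EtCore.Hpull f₀ G n : _ → _) = (fun z => Ext.comp z
      (Ext.mk₀ (((EtCore.pullComp f t).symm ≪≫ EtCore.pullCongr w).hom.app G)) (add_zero n)) ∘
        EtCore.Hpull f ((EtCoh.pull t).obj G) n ∘ EtCore.Hpull t G n :=
  funext fun x => ((HpullVia_Hpull f t f₀ w G n x).symm).trans (MV.HpullVia_apply f t f₀ w G n _)

/-- Injectivity of pullback along a composite. -/
theorem injective_Hpull_comp (f : X ⟶ Y) (t : Y ⟶ Z) (f₀ : X ⟶ Z) (w : f ≫ t = f₀)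
    [PreservesFiniteLimits (EtCoh.pull f)] [PreservesFiniteLimits (EtCoh.pull t)]
    [PreservesFiniteLimits (EtCoh.pull f₀)] (G : EtCoh.Ab Z) (n : ℕ)
    (ht : Function.Injective (EtCore.Hpull t G n))
    (hf : Function.Injective (EtCore.Hpull f ((EtCoh.pull t).obj G) n)) :
    Function.Injective (EtCore.Hpull f₀ G n) := by
  rw [bijective_Hpull_comp_iff f t f₀ w]
  exact (bijective_comp_mk₀ (((EtCore.pullComp f t).symm ≪≫ EtCore.pullCongr w).app G) n).1.comp (hf.comp ht)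

theorem bijective_Hpull_comp (f : X ⟶ Y) (t : Y ⟶ Z) (f₀ : X ⟶ Z) (w : f ≫ t = f₀)
    [PreservesFiniteLimits (EtCoh.pull f)] [PreservesFiniteLimits (EtCoh.pull t)]
    [PreservesFiniteLimits (EtCoh.pull f₀)] (G : EtCoh.Ab Z) (n : ℕ)
    (ht : Function.Bijective (EtCore.Hpull t G n))
    (hf : Function.Bijective (EtCore.Hpull f ((EtCoh.pull t).obj G) n)) :
    Function.Bijective (EtCore.Hpull f₀ G n) := by
  rw [bijective_Hpull_comp_iff f t f₀ w]
  exact (bijective_comp_mk₀ (((EtCore.pullComp f t).symm ≪≫ EtCore.pullCongr w).app G) n).comp (hf.comp ht)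

theorem injective_of_Hpull_comp (f : X ⟶ Y) (t : Y ⟶ Z) (f₀ : X ⟶ Z) (w : f ≫ t = f₀)
    [PreservesFiniteLimits (EtCoh.pull f)] [PreservesFiniteLimits (EtCoh.pull t)]
    [PreservesFiniteLimits (EtCoh.pull f₀)] (G : EtCoh.Ab Z) (n : ℕ)
    (h : Function.Injective (EtCore.Hpull f₀ G n)) : Function.Injective (EtCore.Hpull t G n) := by
  rw [bijective_Hpull_comp_iff f t f₀ w] at h
  exact h.of_comp.of_comp

theorem surjective_of_Hpull_comp (f : X ⟶ Y) (t : Y ⟶ Z) (f₀ : X ⟶ Z) (w : f ≫ t = f₀)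
    [PreservesFiniteLimits (EtCoh.pull f)] [PreservesFiniteLimits (EtCoh.pull t)]
    [PreservesFiniteLimits (EtCoh.pull f₀)] (G : EtCoh.Ab Z) (n : ℕ)
    (h : Function.Surjective (EtCore.Hpull f₀ G n)) :
    Function.Surjective (EtCore.Hpull f ((EtCoh.pull t).obj G) n) := by
  rw [bijective_Hpull_comp_iff f t f₀ w] at h
  exact (Function.Surjective.of_comp_left h
    (bijective_comp_mk₀ (((EtCore.pullComp f t).symm ≪≫ EtCore.pullCongr w).app G) n).1).of_comp

/-- Base change along the identity. -/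
def bcIdIso (X : Scheme.{u}) : EtCoh.bc (𝟙 X) ≅ 𝟭 X.Etale :=
  NatIso.ofComponents (fun V => MorphismProperty.Over.isoMk (asIso (pullback.fst V.hom (𝟙 X)))
      (by
        show pullback.fst V.hom (𝟙 X) ≫ V.hom = pullback.snd V.hom (𝟙 X)
        rw [pullback.condition, Category.comp_id]))
    (fun {V W} g => MorphismProperty.Over.Hom.ext (by
      show ((EtCoh.bc (𝟙 X)).map g).left ≫ pullback.fst W.hom (𝟙 X) = pullback.fst V.hom (𝟙 X) ≫ g.left
      exact pullback.lift_fst _ _ _))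

/-- Direct image along the identity. -/
def pushIdIso (X : Scheme.{u}) : EtCoh.push (𝟙 X) ≅ 𝟭 (EtCoh.Ab X) :=
  Functor.sheafPushforwardContinuousId' (bcIdIso X) _ _

/-- Inverse image along the identity. -/
def pullIdIso (X : Scheme.{u}) : EtCoh.pull (𝟙 X) ≅ 𝟭 (EtCoh.Ab X) :=
  Adjunction.leftAdjointUniq (EtCoh.pullPushAdj (𝟙 X)) (Adjunction.id.ofNatIsoRight (pushIdIso X).symm)

/-- Pullback along the identity is bijective. -/
theorem bijective_Hpull_id [PreservesFiniteLimits (EtCoh.pull (𝟙 X))] (G : EtCoh.Ab X) (n : ℕ) :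
    Function.Bijective (EtCore.Hpull (𝟙 X) G n) := by
  let η := pullIdIso X
  let p : EtCoh.const X ℤ ≅ EtCoh.const X ℤ :=
    (EtCore.pullConst (𝟙 X) ℤ).symm ≪≫ η.app (EtCoh.const X ℤ)
  have key : ∀ y, EtCore.Hpull (𝟙 X) G n y =
      ((Ext.mk₀ p.hom).comp y (zero_add n)).comp (Ext.mk₀ (η.inv.app G)) (add_zero n) := fun y => by
    have h : (Ext.mk₀ (η.hom.app (EtCoh.const X ℤ))).comp y (zero_add n) =
        (y.mapExactFunctor (EtCoh.pull (𝟙 X))).comp (Ext.mk₀ (η.hom.app G)) (add_zero n) := by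
      have h' := GrothLib.PullH25.mapExactFunctor_natTrans (F := EtCoh.pull (𝟙 X)) (𝟭 _) η.hom y
      rwa [GrothLib.PullH25.mapExactFunctor_id] at h'
    show _ = ((Ext.mk₀ ((EtCore.pullConst (𝟙 X) ℤ).inv ≫ η.hom.app _)).comp y (zero_add n)).comp _ _
    rw [← Ext.mk₀_comp_mk₀_assoc, h, MV.Hpull_apply, Ext.comp_assoc_of_third_deg_zero,
      Ext.comp_assoc_of_second_deg_zero, Ext.mk₀_comp_mk₀, Iso.hom_inv_id_app, Ext.comp_mk₀_id]
  rw [show (EtCore.Hpull (𝟙 X) G n : _ → _) = _ from funext key]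
  refine (bijective_comp_mk₀ (η.app G).symm n).comp ?_
  refine Function.bijective_iff_has_inverse.2 ⟨fun y => (Ext.mk₀ p.inv).comp y (zero_add n),
    fun x => ?_, fun y => ?_⟩ <;> simp

theorem pullFL (f : X ⟶ Y) : PreservesFiniteLimits (EtCoh.pull f) :=
  GrothLib.EtSite.pull_preservesFiniteLimits f

/-- Pullback along an isomorphism is bijective. -/
theorem bijective_Hpull_of_isIso (σ : X ⟶ Y) [IsIso σ] [PreservesFiniteLimits (EtCoh.pull σ)]
    (G : EtCoh.Ab Y) (n : ℕ) : Function.Bijective (EtCore.Hpull σ G n) := by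
  haveI := pullFL (inv σ); haveI := pullFL (𝟙 X); haveI := pullFL (𝟙 Y)
  have hσ : ∀ H, Function.Injective (EtCore.Hpull σ H n) := fun H =>
    injective_of_Hpull_comp (inv σ) σ (𝟙 Y) (IsIso.inv_hom_id σ) H n (bijective_Hpull_id H n).1
  have hτ : ∀ H, Function.Injective (EtCore.Hpull (inv σ) H n) := fun H =>
    injective_of_Hpull_comp σ (inv σ) (𝟙 X) (IsIso.hom_inv_id σ) H n (bijective_Hpull_id H n).1
  refine ⟨hσ G, fun z => ?_⟩
  obtain ⟨x, hx⟩ := (bijective_Hpull_id (X := Y) G n).2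
    (EtCore.HpullVia (inv σ) σ (𝟙 Y) (IsIso.inv_hom_id σ) G n z)
  refine ⟨x, hτ _ ((bijective_comp_mk₀ (((EtCore.pullComp (inv σ) σ).symm ≪≫
    EtCore.pullCongr (IsIso.inv_hom_id σ)).app G) n).1 ?_)⟩
  exact (congrFun (bijective_Hpull_comp_iff (inv σ) σ (𝟙 Y) (IsIso.inv_hom_id σ) G n) x).symm.trans
    (hx.trans (MV.HpullVia_apply _ _ _ _ G n z))

end GrothLib.EtDer
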