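import Groth.Prelude.Def_EtCore

/-!
# Coherence of the pullback of constant sheaves
-/

set_option autoImplicit false
set_option backward.isDefEq.respectTransparency false
universe u

open CategoryTheory CategoryTheory.Limits AlgebraicGeometry Opposite

namespace GrothLib.EtDer

variable {X Y Z : Scheme.{u}}

theorem pushGsec_comp (f : X ⟶ Y) (t : Y ⟶ Z) (H : EtCoh.Ab X) :
    (EtCore.gsec Z).map ((EtCoh.pushComp t f).hom.app H) ≫ (EtCore.pushGsecIso (f ≫ t)).hom.app H =
      (EtCore.pushGsecIso t).hom.app ((EtCoh.push f).obj H) ≫ (EtCore.pushGsecIso f).hom.app H := by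
  have key : ∀ {A B : X.Etale} (hA : IsTerminal A) (a b : op A ⟶ op B), H.obj.map a = H.obj.map b :=
    fun hA a b => congrArg H.obj.map (Quiver.Hom.unop_inj (hA.hom_ext _ _))
  refine (H.obj.map_comp _ _).symm.trans (Eq.trans ?_ (H.obj.map_comp _ _))
  exact key (EtCore.bcTopIsTerminal f |> fun h =>
    IsTerminal.isTerminalObj (EtCoh.bc f) _ (EtCore.bcTopIsTerminal t)) _ _

/-- Transpose of the canonical identification of a pulled back constant sheaf. -/
theorem unit_pullConst (f : X ⟶ Y) (M : AddCommGrpCat.{u + 1}) :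
    (EtCore.constAdj X).unit.app M ≫ (EtCore.gsec X).map ((EtCore.pullConstIso f).inv.app M) =
      (EtCore.constAdj Y).unit.app M ≫
        (EtCore.gsec Y).map ((EtCoh.pullPushAdj f).unit.app ((constantSheaf Y.smallEtaleTopology AddCommGrpCat.{u+1}).obj M)) ≫
          (EtCore.pushGsecIso f).hom.app _ := by
  have h := Adjunction.unit_leftAdjointUniq_hom_app (EtCore.constAdj X)
    (((EtCore.constAdj Y).comp (EtCoh.pullPushAdj f)).ofNatIsoRight (EtCore.pushGsecIso f)) M
  rw [EtCore.pullConstIso, Adjunction.leftAdjointUniq_inv_app]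
  refine h.trans ?_
  rw [Adjunction.ofNatIsoRight]
  simp [Adjunction.comp]
  

theorem unit_pullComp (f : X ⟶ Y) (t : Y ⟶ Z) (G : EtCoh.Ab Z) :
    (EtCoh.pullPushAdj (f ≫ t)).unit.app G =
      (EtCoh.pullPushAdj t).unit.app G ≫ (EtCoh.push t).map ((EtCoh.pullPushAdj f).unit.app _) ≫
        (EtCoh.pushComp t f).hom.app _ ≫ (EtCoh.push (f ≫ t)).map ((EtCore.pullComp f t).inv.app G) := by
  have h := Adjunction.unit_leftAdjointUniq_hom_app
    (((EtCoh.pullPushAdj t).comp (EtCoh.pullPushAdj f)).ofNatIsoRight (EtCoh.pushComp t f))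
    (EtCoh.pullPushAdj (f ≫ t)) G
  rw [EtCore.pullComp, Adjunction.leftAdjointUniq_inv_app]
  rw [← h]
  simp [Adjunction.ofNatIsoRight, Adjunction.comp]

theorem pullConstIso_comp (f : X ⟶ Y) (t : Y ⟶ Z) (M : AddCommGrpCat.{u + 1}) :
    (EtCore.pullConstIso f).inv.app M ≫ (EtCoh.pull f).map ((EtCore.pullConstIso t).inv.app M) ≫
      (EtCore.pullComp f t).inv.app ((constantSheaf Z.smallEtaleTopology AddCommGrpCat.{u+1}).obj M) =
        (EtCore.pullConstIso (f ≫ t)).inv.app M := by
  apply ((EtCore.constAdj X).homEquiv _ _).injective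
  simp only [Adjunction.homEquiv_unit]
  rw [Functor.map_comp, Functor.map_comp, reassoc_of% (unit_pullConst f M), unit_pullConst (f ≫ t) M]
  have n1 := (EtCore.pushGsecIso f).hom.naturality ((EtCoh.pull f).map ((EtCore.pullConstIso t).inv.app M))
  have n2 := (EtCore.pushGsecIso (f ≫ t)).hom.naturality ((EtCore.pullComp f t).inv.app
    ((constantSheaf Z.smallEtaleTopology AddCommGrpCat.{u+1}).obj M))
  have n3 := fun H => (EtCore.pushGsecIso t).hom.naturality ((EtCoh.pullPushAdj f).unit.app H)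
  have n4 := (EtCoh.pullPushAdj f).unit.naturality ((EtCore.pullConstIso t).inv.app M)
  simp only [Functor.comp_map, Functor.id_map] at n1 n2 n3 n4
  rw [← reassoc_of% n1, ← Functor.map_comp_assoc, ← n4, Functor.map_comp_assoc,
    reassoc_of% (unit_pullConst t M)]
  rw [unit_pullComp]
  simp only [Functor.map_comp, Category.assoc]
  congr 2
  refine Eq.trans ?_ (congrArg (fun a => _ ≫ _ ≫ a) n2).symm
  refine Eq.trans ?_ (congrArg (_ ≫ ·) ((reassoc_of% (pushGsec_comp f t _)) _)).symm
  exact ((reassoc_of% (n3 _)) _).symm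

/-- Pullbacks of constant sheaves compose. -/
theorem pullConst_comp (f : X ⟶ Y) (t : Y ⟶ Z) (f₀ : X ⟶ Z) (w : f ≫ t = f₀) (M : Type) [AddCommGroup M] :
    (EtCore.pullConst f M).inv ≫ (EtCoh.pull f).map (EtCore.pullConst t M).inv ≫
      (((EtCore.pullComp f t).symm ≪≫ EtCore.pullCongr w).app (EtCoh.const Z M)).hom =
        (EtCore.pullConst f₀ M).inv := by
  subst w
  simp only [EtCore.pullCongr, eqToIso_refl, Iso.trans_refl, Iso.app_hom, Iso.symm_hom]
  exact pullConstIso_comp f t _

end GrothLib.EtDer
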