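import Groth.Agent.Lib.EtDer.MVLocal
import Groth.Agent.Lib.EtDer.StalkSection
import Groth.Agent.Lib.PullH25.Ext

/-!
# Affine schemes with strictly henselian local rings
-/

set_option autoImplicit false
set_option backward.isDefEq.respectTransparency false
universe u

open CategoryTheory CategoryTheory.Limits CategoryTheory.Abelian AlgebraicGeometry Opposite

noncomputable section

namespace GrothLib.EtDer

open MV

theorem uliftInt_hom_ext {A : AddCommGrpCat.{u + 1}} {f g : AddCommGrpCat.of (ULift.{u + 1} ℤ) ⟶ A}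
    (h : f ⟨1⟩ = g ⟨1⟩) : f = g := by
  ext ⟨m⟩
  have : (⟨m⟩ : ULift.{u + 1} ℤ) = m • (⟨1⟩ : ULift.{u + 1} ℤ) := by
    apply ULift.ext
    simp
  rw [this, map_zsmul, map_zsmul, h]

variable {X : Scheme.{u}}

/-- Classes die Zariski locally when the local rings are strictly henselian. -/
theorem exists_kill (hX : ∀ x : X, EtCoh.IsStrictlyHenselianLocalRing (X.presheaf.stalk x)) :
    ∀ (n : ℕ) (F : EtCoh.Ab X) (T : X.Opens) (ξ : Ext.{u + 1} (AW T) F (n + 1)) (x : X), x ∈ T →
      ∃ (V : X.Opens) (h : V ≤ T), x ∈ V ∧ (Ext.mk₀ (bW h)).comp ξ (zero_add _) = 0 := by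
  intro n
  induction n with
  | zero =>
    intro F T ξ x hx
    have hS := GrothLib.PullH25.injSES_shortExact F
    let S := ShortComplex.mk (Injective.ι F) (cokernel.π (Injective.ι F)) (cokernel.condition _)
    haveI : Injective S.X₂ := inferInstanceAs (Injective (Injective.under F))
    obtain ⟨z₀, rfl⟩ := Ext.covariant_sequence_exact₁ (AW T) hS ξ (Ext.eq_zero_of_injective _) rfl
    obtain ⟨z, rfl⟩ := (Ext.mk₀_bijective _ _).2 z₀
    let y := elt T S.X₃ z ⟨1⟩
    haveI : Epi S.g := hS.epi_g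
    have hloc : Sheaf.IsLocallySurjective S.g := (Sheaf.isLocallySurjective_iff_epi' _ S.g).2 inferInstance
    obtain ⟨V', g, v, hg, hv⟩ := (GrothLib.EtSite.mem_topology_iff _).1
      (Presheaf.imageSieve_mem X.smallEtaleTopology S.g.hom (U := op (objW T)) y) ⟨x, hx⟩
    obtain ⟨r, hr⟩ := hg
    haveI : Etale V'.hom := V'.prop
    obtain ⟨V, s, hVmem, hs⟩ := exists_open_section V'.hom v (hX _)
    have hgT : g.left ≫ T.ι = V'.hom :=
      ((congrArg (g.left ≫ ·) (Category.id_comp T.ι)).symm).trans (MorphismProperty.Over.w g)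
    have hle : V ≤ T := fun p hp => by
      have e := congrArg (fun k : V.toScheme ⟶ X => k.base ⟨p, hp⟩) hs
      have : V'.hom.base (s.base ⟨p, hp⟩) = p := e
      rw [← this, ← hgT]
      exact (g.left.base (s.base ⟨p, hp⟩)).2
    have hvx : V'.hom.base v = x := by
      rw [← hgT]
      exact congrArg Subtype.val hv
    refine ⟨V, hle, hvx ▸ hVmem, ?_⟩
    let k : objW V ⟶ V' := MorphismProperty.Over.homMk s (hs.trans (Category.id_comp V.ι).symm)
    have hk : k ≫ g = homW hle := by
      apply MorphismProperty.Over.Hom.ext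
      show s ≫ g.left = X.homOfLE hle
      rw [← cancel_mono T.ι, Category.assoc, hgT, hs, X.homOfLE_ι]
    let φ : AW V ⟶ S.X₂ := (elt V S.X₂).symm
      (AddCommGrpCat.ofHom ((zmultiplesHom _ (S.X₂.obj.map k.op r)).comp AddEquiv.ulift.toAddMonoidHom))
    have hφ : φ ≫ S.g = bW hle ≫ z := by
      apply (elt V S.X₃).injective
      rw [elt_comp, elt_bW_comp, Equiv.apply_symm_apply]
      apply uliftInt_hom_ext
      show S.g.hom.app (op (objW V)) ((1 : ℤ) • S.X₂.obj.map k.op r) = S.X₃.obj.map (homW hle).op y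
      rw [one_zsmul, NatTrans.naturality_apply, hr, ← hk, op_comp, Functor.map_comp_apply]
    rw [← Ext.comp_assoc (Ext.mk₀ (bW hle)) (Ext.mk₀ z) hS.extClass (zero_add 0) rfl (by omega),
      Ext.mk₀_comp_mk₀, ← hφ, ← Ext.mk₀_comp_mk₀, Ext.comp_assoc_of_second_deg_zero]
    exact (congrArg (fun k => (Ext.mk₀ φ).comp k (zero_add 1)) hS.comp_extClass).trans (Ext.comp_zero _ _ _ _ _)
  | succ n ih =>
    intro F T ξ x hx
    obtain ⟨z, rfl⟩ := GrothLib.PullH25.exists_comp_extClass ξ
    obtain ⟨V, h, hxV, hz⟩ := ih _ T z x hx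
    refine ⟨V, h, hxV, ?_⟩
    rw [← Ext.comp_assoc _ _ _ (zero_add (n + 1)) rfl (by omega), hz, Ext.zero_comp]

/-- The hypothesis in degree one. -/
def SumInjective (F : EtCoh.Ab X) : Prop :=
  ∀ (f g : Γ(X, ⊤)) (h₁ : X.basicOpen (f * (f + g)) ≤ X.basicOpen (f + g))
    (h₂ : X.basicOpen (g * (f + g)) ≤ X.basicOpen (f + g))
    (x : Ext.{u + 1} (AW (X.basicOpen (f + g))) F 1),
    (Ext.mk₀ (bW h₁)).comp x (zero_add 1) = 0 → (Ext.mk₀ (bW h₂)).comp x (zero_add 1) = 0 → x = 0

theorem kill_mono {F : EtCoh.Ab X} {n : ℕ} {T V V' : X.Opens} (hV : V ≤ T) (hV' : V' ≤ V)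
    {ξ : Ext.{u + 1} (AW T) F n} (h : (Ext.mk₀ (bW hV)).comp ξ (zero_add n) = 0) :
    (Ext.mk₀ (bW (hV'.trans hV))).comp ξ (zero_add n) = 0 := by
  rw [← bW_bW hV' hV, ← Ext.mk₀_comp_mk₀_assoc, h, Ext.comp_zero]

theorem subsingleton_ext_basicOpen [IsAffine X]
    (hX : ∀ x : X, EtCoh.IsStrictlyHenselianLocalRing (X.presheaf.stalk x))
    (F : EtCoh.Ab X) (h1 : SumInjective F) :
    ∀ (n : ℕ) (h : Γ(X, ⊤)), Subsingleton (Ext.{u + 1} (AW (X.basicOpen h)) F (n + 1)) := by
  intro n
  induction n using Nat.strong_induction_on with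
  | _ n IH =>
    intro h
    refine subsingleton_of_forall_eq 0 fun ξ => ?_
    let Kill : Γ(X, ⊤) → Prop := fun f => ∀ (hle : X.basicOpen (h * f) ≤ X.basicOpen h),
      (Ext.mk₀ (bW hle)).comp ξ (zero_add _) = 0
    have hle : ∀ f, X.basicOpen (h * f) ≤ X.basicOpen h := fun f =>
      (X.basicOpen_mul h f).trans_le inf_le_left
    let J : Ideal Γ(X, ⊤) :=
      { carrier := {f | Kill f}
        zero_mem' := fun hl => by
          have hb : X.basicOpen (h * 0) = ⊥ := by rw [mul_zero, X.basicOpen_zero]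
          have hz : IsZero (AW (X.basicOpen (h * 0))) := hb ▸ isZero_AW_bot
          rw [hz.eq_of_src (bW hl) 0, Ext.mk₀_zero, Ext.zero_comp]
        add_mem' := fun {a b} ha hb hl => by
          set e := h * (a + b) with he
          have hab : e = h * a + h * b := mul_add h a b
          have l₁ : X.basicOpen (h * a * e) ≤ X.basicOpen e := (X.basicOpen_mul _ _).trans_le inf_le_right
          have l₂ : X.basicOpen (h * b * e) ≤ X.basicOpen e := (X.basicOpen_mul _ _).trans_le inf_le_right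
          have m₁ : X.basicOpen (h * a * e) ≤ X.basicOpen (h * a) := (X.basicOpen_mul _ _).trans_le inf_le_left
          have m₂ : X.basicOpen (h * b * e) ≤ X.basicOpen (h * b) := (X.basicOpen_mul _ _).trans_le inf_le_left
          let x := (Ext.mk₀ (bW hl)).comp ξ (zero_add (n + 1))
          have k₁ : (Ext.mk₀ (bW l₁)).comp x (zero_add _) = 0 := by
            rw [Ext.mk₀_comp_mk₀_assoc, bW_bW]
            exact kill_mono (hle a) m₁ (ha (hle a))
          have k₂ : (Ext.mk₀ (bW l₂)).comp x (zero_add _) = 0 := by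
            rw [Ext.mk₀_comp_mk₀_assoc, bW_bW]
            exact kill_mono (hle b) m₂ (hb (hle b))
          have hcov : X.basicOpen (h * a * e) ⊔ X.basicOpen (h * b * e) = X.basicOpen e := by
            refine le_antisymm (sup_le l₁ l₂) ?_
            rw [X.basicOpen_mul (h * a) e, X.basicOpen_mul (h * b) e, ← inf_sup_right]
            refine le_inf ?_ le_rfl
            rw [hab]
            exact Scheme.basicOpen_add_le X _ _
          show x = 0
          cases n with
          | zero =>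
            revert x
            intro x k₁ k₂
            have := h1 (h * a) (h * b)
            rw [← hab] at this
            exact this l₁ l₂ x k₁ k₂
          | succ m =>
            refine eq_zero_of_bW _ _ _ l₁ l₂ hcov F (m + 1) x ?_ k₁ k₂
            have hi : X.basicOpen (h * a * e) ⊓ X.basicOpen (h * b * e) = X.basicOpen (h * a * e * (h * b * e)) :=
              (X.basicOpen_mul _ _).symm
            rw [hi]
            exact IH m (by omega) _
        smul_mem' := fun c f hf hl => by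
          have l : X.basicOpen (h * (c • f)) ≤ X.basicOpen (h * f) := by
            rw [smul_eq_mul, mul_left_comm, X.basicOpen_mul]
            exact inf_le_right
          exact kill_mono (hle f) l (hf (hle f)) }
    have hrad : h ∈ J.radical := by
      rw [Ideal.radical_eq_sInf, Ideal.mem_sInf]
      rintro p ⟨hJp, hp⟩
      by_contra hhp
      let hU := isAffineOpen_top X
      let P : PrimeSpectrum Γ(X, ⊤) := ⟨p, hp⟩
      let x : X := hU.fromSpec.base P
      have hmem : ∀ f : Γ(X, ⊤), x ∈ X.basicOpen f ↔ f ∉ p := fun f => by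
        show P ∈ hU.fromSpec ⁻¹ᵁ X.basicOpen f ↔ _
        rw [hU.fromSpec_preimage_basicOpen]
        rfl
      obtain ⟨V, hV, hxV, hk⟩ := exists_kill hX n F _ ξ x ((hmem h).2 hhp)
      obtain ⟨f, hf, hxf⟩ := hU.exists_basicOpen_le (V := V) ⟨x, hxV⟩ trivial
      refine (hmem f).1 hxf (hJp fun hl => ?_)
      exact kill_mono hV (((X.basicOpen_mul h f).trans_le inf_le_right).trans hf) hk
    obtain ⟨N, hN⟩ := hrad
    have heq : X.basicOpen (h * h ^ N) = X.basicOpen h :=
      le_antisymm (hle _) (fun p hp => by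
        rw [X.basicOpen_mul]
        refine ⟨hp, ?_⟩
        rcases Nat.eq_zero_or_pos N with rfl | hN0
        · rw [pow_zero, X.basicOpen_of_isUnit isUnit_one]; trivial
        · rw [X.basicOpen_pow h hN0]; exact hp)
    have := hN (hle _)
    have hi : bW (hle (h ^ N)) ≫ bW heq.ge = 𝟙 _ := by
      rw [bW_bW, ← cancel_mono (aW _), bW_aW, Category.id_comp]
    have hj : bW heq.ge ≫ bW (hle (h ^ N)) = 𝟙 (AW (X.basicOpen h)) := by
      rw [bW_bW, ← cancel_mono (aW _), bW_aW, Category.id_comp]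
    rw [← Ext.mk₀_id_comp ξ, ← hj, ← Ext.mk₀_comp_mk₀_assoc, this, Ext.comp_zero]

theorem subsingleton_H [IsAffine X]
    (hX : ∀ x : X, EtCoh.IsStrictlyHenselianLocalRing (X.presheaf.stalk x))
    (F : EtCoh.Ab X) (h1 : SumInjective F) (n : ℕ) : Subsingleton (EtCoh.H X F (n + 1)) := by
  have hT : X.basicOpen (1 : Γ(X, ⊤)) = ⊤ := X.basicOpen_of_isUnit isUnit_one
  have hs := subsingleton_ext_basicOpen hX F h1 n 1
  rw [hT] at hs
  haveI := isIso_aW_top (X := X)
  refine ⟨fun a b => ?_⟩
  have : (Ext.mk₀ (aW (⊤ : X.Opens))).comp a (zero_add (n + 1)) =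
      (Ext.mk₀ (aW (⊤ : X.Opens))).comp b (zero_add (n + 1)) := @Subsingleton.elim _ hs _ _
  have := congrArg (fun k => (Ext.mk₀ (inv (aW (⊤ : X.Opens)))).comp k (zero_add (n + 1))) this
  simp only [Ext.mk₀_comp_mk₀_assoc, IsIso.inv_hom_id] at this
  exact (Ext.mk₀_id_comp a).symm.trans (this.trans (Ext.mk₀_id_comp b))

end GrothLib.EtDer
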