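import Groth.Agent.Lib.EtDer.EtLocalRing
import Groth.Agent.Lib.Hensel.Henselization
import Groth.Agent.Lib.Hensel.Lift
import Groth.Agent.Lib.EtSite.Sections

/-!
# Etale local rings of affine schemes are strict henselizations

`GrothLib.EtDer.EtLocal.exists_ringEquiv_strictHens`: for `φ₀ : A₀ →+* Ω` the etale local ring of `Spec A₀` at
`Spec φ₀` is the strict henselization of the localization of `A₀` at `ker φ₀`.
-/

set_option autoImplicit false
set_option backward.isDefEq.respectTransparency false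
universe u

open CategoryTheory CategoryTheory.Limits AlgebraicGeometry Opposite IsLocalRing

noncomputable section

namespace GrothLib.EtDer.EtLocal

variable {A₀ Ω : Type u} [CommRing A₀] [Field Ω] [IsSepClosed Ω] (φ₀ : A₀ →+* Ω)

/-- The geometric point of `Spec A₀`. -/
abbrev pt : Spec (CommRingCat.of Ω) ⟶ Spec (CommRingCat.of A₀) := Spec.map (CommRingCat.ofHom φ₀)

local notation "A" => EtBase.etaleLocalRing (pt φ₀)

section Affine

variable {B : Type u} [CommRing B] (α : A₀ →+* B) (hα : α.Etale) (φ : B →+* Ω) (hφ : φ.comp α = φ₀)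

/-- An affine object of the small etale site. -/
def affObj (hα : α.Etale) : (Spec (CommRingCat.of A₀)).Etale :=
  haveI : Etale (Spec.map (CommRingCat.ofHom α)) := (HasRingHomProperty.Spec_iff (P := @Etale)).2 hα
  Scheme.Etale.mk (Spec.map (CommRingCat.ofHom α))

/-- The point of an affine object. -/
def affPt : (Scheme.pointSmallEtale (pt φ₀)).fiber.obj (affObj α hα) :=
  GrothLib.EtSite.fib (pt φ₀) (U := affObj α hα) (Spec.map (CommRingCat.ofHom φ)) (by
    show Spec.map _ ≫ Spec.map (CommRingCat.ofHom α) = _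
    rw [← Spec.map_comp, ← CommRingCat.ofHom_comp, hφ])

/-- The germ map of an affine neighbourhood. -/
def affGrm : B →+* A :=
  (grm (pt φ₀) (affObj α hα) (affPt φ₀ α hα φ hφ)).comp (Scheme.ΓSpecIso (CommRingCat.of B)).inv.hom

theorem ev_affGrm (b : B) : (ev (pt φ₀)).hom (affGrm φ₀ α hα φ hφ b) = φ b := by
  refine (ev_grm (pt φ₀) (affObj α hα) (affPt φ₀ α hα φ hφ) _).trans ?_
  show ((Spec.map (CommRingCat.ofHom φ)).appTop ≫ (Scheme.ΓSpecIso (CommRingCat.of Ω)).hom).hom
      ((Scheme.ΓSpecIso (CommRingCat.of B)).inv.hom b) = _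
  rw [Scheme.ΓSpecIso_naturality]
  exact congrArg φ (ConcreteCategory.congr_hom (Scheme.ΓSpecIso (CommRingCat.of B)).inv_hom_id b)

theorem etale_id : (RingHom.id A₀).Etale := RingHom.Etale.of_bijective Function.bijective_id

/-- The structure map of the etale local ring. -/
def base : A₀ →+* A := affGrm φ₀ (RingHom.id A₀) etale_id φ₀ rfl

theorem affGrm_comp : (affGrm φ₀ α hα φ hφ).comp α = base φ₀ := by
  let q : affObj α hα ⟶ affObj (RingHom.id A₀) etale_id :=
    MorphismProperty.Over.homMk (Spec.map (CommRingCat.ofHom α)) (by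
      show Spec.map (CommRingCat.ofHom α) ≫ Spec.map (CommRingCat.ofHom (RingHom.id A₀)) = Spec.map (CommRingCat.ofHom α)
      rw [← Spec.map_comp, ← CommRingCat.ofHom_comp, RingHom.comp_id])
  have hq : (Scheme.pointSmallEtale (pt φ₀)).fiber.map q (affPt φ₀ α hα φ hφ) =
      affPt φ₀ (RingHom.id A₀) etale_id φ₀ rfl := by
    refine Over.OverMorphism.ext ?_
    show Spec.map (CommRingCat.ofHom φ) ≫ Spec.map (CommRingCat.ofHom α) = Spec.map (CommRingCat.ofHom φ₀)
    rw [← Spec.map_comp, ← CommRingCat.ofHom_comp, hφ]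
  refine RingHom.ext fun r => ?_
  show grm (pt φ₀) (affObj α hα) _ ((CommRingCat.ofHom α ≫ (Scheme.ΓSpecIso (CommRingCat.of B)).inv).hom r) = _
  rw [Scheme.ΓSpecIso_inv_naturality]
  show grm (pt φ₀) (affObj α hα) _ (q.left.appTop.hom ((Scheme.ΓSpecIso (CommRingCat.of A₀)).inv.hom r)) = _
  exact (RingHom.congr_fun (grm_map (pt φ₀) q _) _).trans (by rw [hq]; rfl)

end Affine

theorem ev_base (r : A₀) : (ev (pt φ₀)).hom (base φ₀ r) = φ₀ r := ev_affGrm φ₀ _ _ _ _ r

/-- Every germ comes from an affine neighbourhood. -/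
theorem exists_affGrm (a : A) : ∃ (B : CommRingCat.{u}) (α : A₀ →+* B) (hα : α.Etale) (φ : B →+* Ω)
    (hφ : φ.comp α = φ₀) (b : B), affGrm φ₀ α hα φ hφ b = a := by
  obtain ⟨U, t, s, rfl⟩ := exists_grm (pt φ₀) a
  obtain ⟨B, j, hj, t', ht'⟩ := GrothLib.EtSite.exists_affine_fac t.left
  haveI := hj
  haveI : Etale U.hom := U.prop
  obtain ⟨α, hα⟩ := Spec.map_surjective (j ≫ U.hom)
  obtain ⟨φ, rfl⟩ := Spec.map_surjective t'
  have hαe : α.hom.Etale := by
    rw [← HasRingHomProperty.Spec_iff (P := @Etale), hα]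
    infer_instance
  have hφ : φ.hom.comp α.hom = φ₀ := by
    have e : α ≫ φ = CommRingCat.ofHom φ₀ := Spec.map_injective (by
      rw [Spec.map_comp, hα, ← Category.assoc, ht']
      exact Over.w t)
    exact congrArg CommRingCat.Hom.hom e
  let g : affObj α.hom hαe ⟶ U := MorphismProperty.Over.homMk j (by
    show j ≫ U.hom = Spec.map (CommRingCat.ofHom α.hom)
    rw [CommRingCat.ofHom_hom, hα])
  have hg : (Scheme.pointSmallEtale (pt φ₀)).fiber.map g (affPt φ₀ α.hom hαe φ.hom hφ) = t :=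
    Over.OverMorphism.ext ht'
  refine ⟨B, α.hom, hαe, φ.hom, hφ, (Scheme.ΓSpecIso B).hom.hom (g.left.appTop.hom s), ?_⟩
  show grm (pt φ₀) (affObj α.hom hαe) _ ((Scheme.ΓSpecIso B).inv.hom ((Scheme.ΓSpecIso B).hom.hom _)) = _
  refine (congrArg _ (ConcreteCategory.congr_hom (Scheme.ΓSpecIso B).hom_inv_id _)).trans ?_
  exact (RingHom.congr_fun (grm_map (pt φ₀) g _) s).trans (by rw [hg])

instance isPrime_ker : (RingHom.ker φ₀).IsPrime := RingHom.ker_isPrime φ₀

/-- The etale local ring of an affine scheme is a strict henselization of the local ring. -/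
theorem exists_ringEquiv_strictHens :
    Nonempty ((A : CommRingCat.{u}) ≃+* GrothLib.Hensel.StrictHens
      (Localization.AtPrime (RingHom.ker φ₀))) := by
  let P : Ideal A₀ := RingHom.ker φ₀
  let R := Localization.AtPrime P
  let H := GrothLib.Hensel.StrictHens R
  obtain ⟨hA, hAsep⟩ := isStrictlyHenselian (pt φ₀)
  haveI := hA
  haveI := hAsep
  let e := (ev (pt φ₀)).hom
  have hmax := mem_maximalIdeal_iff (pt φ₀)
  -- the map from the local ring
  have hu : ∀ y : P.primeCompl, IsUnit (base φ₀ y) := fun y =>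
    isUnit_of_ev_ne_zero _ _ (by rw [ev_base]; exact fun h => y.2 (RingHom.mem_ker.2 h))
  let βR : R →+* A := IsLocalization.lift hu
  have hβR : ∀ r, βR (algebraMap A₀ R r) = base φ₀ r := fun r => IsLocalization.lift_eq hu r
  haveI hloc : IsLocalHom βR := ⟨fun x hx => by
    obtain ⟨⟨a, s⟩, rfl⟩ := IsLocalization.mk'_surjective P.primeCompl x
    have h2 : IsUnit (βR (algebraMap A₀ R a)) := by
      have h3 : βR (IsLocalization.mk' R a s) * βR (algebraMap A₀ R s) = βR (algebraMap A₀ R a) := by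
        rw [← map_mul, IsLocalization.mk'_spec]
      rw [← h3]
      exact hx.mul (by rw [hβR]; exact hu s)
    rw [hβR] at h2
    have ha : a ∈ P.primeCompl := fun h => by
      have := (h2.map e).ne_zero
      rw [ev_base] at this
      exact this (RingHom.mem_ker.1 h)
    exact (IsLocalization.AtPrime.isUnit_mk'_iff R P a s).2 ha⟩
  letI : Algebra R A := βR.toAlgebra
  haveI : IsLocalHom (algebraMap R A) := hloc
  haveI : IsSepClosure (ResidueField R) (ResidueField H) :=
    (inferInstance : _root_.Hensel.IsStrictHenselization R H).isSepClosure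
  haveI : Algebra.IsSeparable (ResidueField R) (ResidueField H) := IsSepClosure.separable
  let τ : ResidueField H →ₐ[ResidueField R] ResidueField A := IsSepClosed.lift
  obtain ⟨Φ, hΦ⟩ := GrothLib.Hensel.IsStrictHenselization.exists_algHom (S := H) A τ
  let ι : ResidueField A →+* Ω := Ideal.Quotient.lift _ e fun a ha => (hmax a).1 ha
  have hι : ∀ a, ι (residue A a) = e a := fun a => rfl
  let ρ : H →+* Ω := e.comp Φ.toRingHom
  have hρ : ∀ h, ρ h = ι (τ (residue H h)) := fun h => (congrArg ι (hΦ h))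
  have hker : RingHom.ker ρ = maximalIdeal H := by
    ext h
    rw [RingHom.mem_ker, hρ, map_eq_zero_iff ι ι.injective, map_eq_zero_iff τ (RingHom.injective τ.toRingHom)]
    exact residue_eq_zero_iff h
  have hres : ∀ h h' : H, ρ h = ρ h' → residue H h = residue H h' := fun h h' hh => by
    rw [← sub_eq_zero, ← map_sub, residue_eq_zero_iff, ← hker, RingHom.mem_ker, map_sub, hh, sub_self]
  let a₀ : A₀ →+* H := (algebraMap R H).comp (algebraMap A₀ R)
  have ha₀ : ρ.comp a₀ = φ₀ := RingHom.ext fun r => by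
    show e (Φ (algebraMap R H (algebraMap A₀ R r))) = φ₀ r
    rw [AlgHom.commutes]
    exact (congrArg e (hβR r)).trans (ev_base φ₀ r)
  -- sections over the strict henselization
  let q : Spec (CommRingCat.of H) ⟶ Spec (CommRingCat.of A₀) := Spec.map (CommRingCat.ofHom a₀)
  have hqp : Spec.map (CommRingCat.ofHom ρ) ≫ q = pt φ₀ := by
    rw [← Spec.map_comp, ← CommRingCat.ofHom_comp, ha₀]
  have huniq : ∀ (U : (Spec (CommRingCat.of A₀)).Etale) (m m' : Spec (CommRingCat.of H) ⟶ U.left),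
      m ≫ U.hom = q → m' ≫ U.hom = q →
      Spec.map (CommRingCat.ofHom ρ) ≫ m = Spec.map (CommRingCat.ofHom ρ) ≫ m' → m = m' := by
    intro U m m' h h' hp
    haveI : Etale U.hom := U.prop
    obtain ⟨V, hV, hVe⟩ := GrothLib.EtSite.exists_open_eq_of_unramified U.hom m m' (h.trans h'.symm) _ hp
    have hc : (Spec.map (CommRingCat.ofHom ρ)).base default = closedPoint H := by
      apply PrimeSpectrum.ext
      refine Eq.trans ?_ hker
      exact congrArg (Ideal.comap ρ) (Ideal.eq_bot_of_prime _)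
    rw [hc] at hV
    exact GrothLib.EtSite.eq_of_open_eq_top V ((closedPoint_mem_iff V).1 hV) hVe
  haveI : HenselianLocalRing H := (inferInstance : _root_.Hensel.IsStrictHenselization R H).henselian
  haveI : IsSepClosed (ResidueField H) := IsSepClosure.sep_closed (ResidueField R)
  have hex : ∀ (U : (Spec (CommRingCat.of A₀)).Etale) (t : (Scheme.pointSmallEtale (pt φ₀)).fiber.obj U),
      ∃ m : Spec (CommRingCat.of H) ⟶ U.left, m ≫ U.hom = q ∧ Spec.map (CommRingCat.ofHom ρ) ≫ m = t.left := by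
    intro U t
    haveI : Etale U.hom := U.prop
    obtain ⟨s, hs, hst⟩ := GrothLib.EtSite.exists_section (pullback.snd U.hom q) ρ hker
      (pullback.lift t.left (Spec.map (CommRingCat.ofHom ρ)) ((Over.w t).trans hqp.symm)) (pullback.lift_snd _ _ _)
    refine ⟨s ≫ pullback.fst U.hom q, ?_, ?_⟩
    · rw [Category.assoc, pullback.condition, ← Category.assoc, hs, Category.id_comp]
    · rw [← Category.assoc, hst, pullback.lift_fst]
  choose m hm₁ hm₂ using hex
  let sec : ∀ (U : (Spec (CommRingCat.of A₀)).Etale) (_ : (Scheme.pointSmallEtale (pt φ₀)).fiber.obj U),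
      (EtBase.OO (Spec (CommRingCat.of A₀))).obj (op U) ⟶ CommRingCat.of H := fun U t =>
    (m U t).appTop ≫ (Scheme.ΓSpecIso (CommRingCat.of H)).hom
  let Ψ : A ⟶ CommRingCat.of H := (Scheme.pointSmallEtale (pt φ₀)).presheafFiberDesc sec (fun U V g t => by
    have e1 : m U t ≫ g.left = m V ((Scheme.pointSmallEtale (pt φ₀)).fiber.map g t) := by
      refine huniq V _ _ ?_ (hm₁ _ _) ?_
      · rw [Category.assoc, MorphismProperty.Over.w g]; exact hm₁ _ _
      · rw [← Category.assoc, hm₂, hm₂]; rfl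
    show g.left.appTop ≫ (m U t).appTop ≫ _ = (m V _).appTop ≫ _
    rw [← e1, Scheme.Hom.comp_appTop, Category.assoc])
  have hΨ : ∀ (U : (Spec (CommRingCat.of A₀)).Etale) (t : (Scheme.pointSmallEtale (pt φ₀)).fiber.obj U)
      (s : Γ(U.left, ⊤)), Ψ.hom (grm (pt φ₀) U t s) = (sec U t).hom s := fun U t s =>
    ConcreteCategory.congr_hom ((Scheme.pointSmallEtale (pt φ₀)).toPresheafFiber_presheafFiberDesc sec _ U t) s
  -- on affine neighbourhoods
  have haff : ∀ (B : CommRingCat.{u}) (α : A₀ →+* B) (hα : α.Etale) (φ : B →+* Ω) (hφ : φ.comp α = φ₀),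
      ∃ σ : B →+* H, σ.comp α = a₀ ∧ ρ.comp σ = φ ∧
        ∀ b, Ψ.hom (affGrm φ₀ α hα φ hφ b) = σ b := by
    intro B α hα φ hφ
    obtain ⟨σ, hσ⟩ : ∃ σ : B ⟶ CommRingCat.of H, Spec.map σ = m (affObj α hα) (affPt φ₀ α hα φ hφ) :=
      Spec.map_surjective _
    refine ⟨σ.hom, ?_, ?_, fun b => ?_⟩
    · have h := hm₁ (affObj α hα) (affPt φ₀ α hα φ hφ)
      rw [← hσ] at h
      have e2 : CommRingCat.ofHom α ≫ σ = CommRingCat.ofHom a₀ :=
        Spec.map_injective ((Spec.map_comp _ _).trans h)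
      exact congrArg CommRingCat.Hom.hom e2
    · have h := hm₂ (affObj α hα) (affPt φ₀ α hα φ hφ)
      rw [← hσ] at h
      have e2 : σ ≫ CommRingCat.ofHom ρ = CommRingCat.ofHom φ :=
        Spec.map_injective ((Spec.map_comp _ _).trans h)
      exact congrArg CommRingCat.Hom.hom e2
    · refine (hΨ _ _ _).trans ?_
      show ((m (affObj α hα) (affPt φ₀ α hα φ hφ)).appTop ≫ (Scheme.ΓSpecIso (CommRingCat.of H)).hom).hom
        ((Scheme.ΓSpecIso (CommRingCat.of B)).inv.hom b) = _
      rw [← hσ, Scheme.ΓSpecIso_naturality]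
      exact congrArg σ.hom (ConcreteCategory.congr_hom (Scheme.ΓSpecIso (CommRingCat.of B)).inv_hom_id b)
  have hΦΨ : ∀ a, Φ (Ψ.hom a) = a := by
    intro a
    obtain ⟨B, α, hα, φ, hφ, b, rfl⟩ := exists_affGrm φ₀ a
    obtain ⟨σ, hσα, hσρ, hσΨ⟩ := haff B α hα φ hφ
    rw [hσΨ]
    letI : Algebra A₀ B := α.toAlgebra
    haveI : Algebra.Etale A₀ B := hα
    letI : Algebra A₀ A := (base φ₀).toAlgebra
    let f₁ : B →ₐ[A₀] A := { Φ.toRingHom.comp σ with
      commutes' := fun r => by
        show Φ (σ (α r)) = base φ₀ r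
        rw [← RingHom.comp_apply σ α, hσα]
        exact (Φ.commutes _).trans (hβR r) }
    let f₂ : B →ₐ[A₀] A := { affGrm φ₀ α hα φ hφ with
      commutes' := fun r => RingHom.congr_fun (affGrm_comp φ₀ α hα φ hφ) r }
    have hf : f₁ = f₂ := by
      refine (GrothLib.Hensel.existsUnique_lift_residue ((residue A).comp f₂.toRingHom) ?_).unique
        (fun y => ι.injective ?_) (fun y => rfl)
      · exact (RingHom.comp_assoc _ _ _).trans (congrArg ((residue A).comp) f₂.comp_algebraMap)
      · show e (Φ (σ y)) = e (affGrm φ₀ α hα φ hφ y)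
        rw [ev_affGrm]
        exact RingHom.congr_fun hσρ y
    exact AlgHom.congr_fun hf b
  have hev : ∀ a, ρ (Ψ.hom a) = e a := fun a => congrArg e (hΦΨ a)
  have hΨbase : ∀ r, Ψ.hom (base φ₀ r) = a₀ r := by
    intro r
    obtain ⟨σ, hσα, -, hσΨ⟩ := haff (CommRingCat.of A₀) (RingHom.id A₀) etale_id φ₀ rfl
    exact (hσΨ r).trans (RingHom.congr_fun hσα r)
  have hfR : (Ψ.hom.comp Φ.toRingHom).comp (algebraMap R H) = algebraMap R H :=
    IsLocalization.ringHom_ext P.primeCompl (RingHom.ext fun r => by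
      show Ψ.hom (Φ (algebraMap R H (algebraMap A₀ R r))) = a₀ r
      rw [AlgHom.commutes]
      exact (congrArg Ψ.hom (hβR r)).trans (hΨbase r))
  let F : H →ₐ[R] H := { Ψ.hom.comp Φ.toRingHom with commutes' := fun r => RingHom.congr_fun hfR r }
  have hF : F = AlgHom.id R H :=
    GrothLib.Hensel.IsStrictHenselization.algHom_eq_id F fun h => hres _ _ (hev (Φ h))
  exact ⟨RingEquiv.ofRingHom Ψ.hom Φ.toRingHom (RingHom.ext fun h => AlgHom.congr_fun hF h) (RingHom.ext hΦΨ)⟩

end GrothLib.EtDer.EtLocal
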