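import Groth.Agent.Lib.EtDer.PullConst
import Groth.Agent.Lib.EtDer.ExtUnit
import Groth.Agent.Lib.EtDer.Injective

/-!
# Mayer-Vietoris for étale cohomology and a union of two open subschemes
-/

set_option autoImplicit false
set_option backward.isDefEq.respectTransparency false
universe u

open CategoryTheory CategoryTheory.Limits CategoryTheory.Abelian AlgebraicGeometry Opposite

noncomputable section

namespace GrothLib.EtDer.MV

variable {X : Scheme.{u}}

instance jCont (W : X.Opens) : EtShriek.JCont W.ι := GrothLib.Constructible.jcont W.ι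

/-- Extension by zero is left adjoint to inverse image. -/
def adj (W : X.Opens) : EtShriek.extZero W.ι ⊣ EtCoh.pull W.ι :=
  (EtShriek.extZeroAdj W.ι).ofNatIsoRight (GrothLib.ExtZero.restrIsoPull W.ι)

/-- `j_! ℤ`. -/
abbrev AW (W : X.Opens) : EtCoh.Ab X := (EtShriek.extZero W.ι).obj (EtCoh.const W.toScheme ℤ)

/-- `j_! ℤ → ℤ`. -/
def aW (W : X.Opens) : AW W ⟶ EtCoh.const X ℤ :=
  ((adj W).homEquiv _ _).symm (EtCore.pullConst W.ι ℤ).inv

/-- `j'_! ℤ → j_! ℤ`. -/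
def bW {W U : X.Opens} (h : W ≤ U) : AW W ⟶ AW U :=
  ((adj W).homEquiv _ _).symm ((EtCore.pullConst (X.homOfLE h) ℤ).inv ≫
    (EtCoh.pull (X.homOfLE h)).map ((adj U).unit.app _) ≫
    (((EtCore.pullComp (X.homOfLE h) U.ι).symm ≪≫ EtCore.pullCongr (X.homOfLE_ι h)).app (AW U)).hom)

theorem homEquiv_aW (W : X.Opens) :
    (adj W).unit.app _ ≫ (EtCoh.pull W.ι).map (aW W) = (EtCore.pullConst W.ι ℤ).inv := by
  exact (Adjunction.homEquiv_unit (adj W) _ _ _).symm.trans (Equiv.apply_symm_apply _ _)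

theorem homEquiv_bW {W U : X.Opens} (h : W ≤ U) :
    (adj W).unit.app _ ≫ (EtCoh.pull W.ι).map (bW h) = (EtCore.pullConst (X.homOfLE h) ℤ).inv ≫
    (EtCoh.pull (X.homOfLE h)).map ((adj U).unit.app _) ≫
    (((EtCore.pullComp (X.homOfLE h) U.ι).symm ≪≫ EtCore.pullCongr (X.homOfLE_ι h)).app (AW U)).hom := by
  exact (Adjunction.homEquiv_unit (adj W) _ _ _).symm.trans (Equiv.apply_symm_apply _ _)

@[reassoc]
theorem bW_aW {W U : X.Opens} (h : W ≤ U) : bW h ≫ aW U = aW W := by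
  apply ((adj W).homEquiv _ _).injective
  rw [Adjunction.homEquiv_unit, Adjunction.homEquiv_unit, homEquiv_aW, Functor.map_comp,
    ← Category.assoc, homEquiv_bW, Category.assoc, Category.assoc]
  refine Eq.trans ?_ (pullConst_comp (X.homOfLE h) U.ι W.ι (X.homOfLE_ι h) ℤ)
  have n := ((EtCore.pullComp (X.homOfLE h) U.ι).symm ≪≫ EtCore.pullCongr (X.homOfLE_ι h)).hom.naturality (aW U)
  rw [← homEquiv_aW U, Functor.map_comp, Category.assoc]
  exact congrArg (fun k => _ ≫ _ ≫ k) n.symm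

section stalk

variable {Ω : Type u} [Field Ω] [IsSepClosed Ω] (ξ : Spec (CommRingCat.of Ω) ⟶ X) (W : X.Opens)

theorem isIso_stalk_aW (h : ξ.base default ∈ W) : IsIso ((EtCoh.stalk ξ).map (aW W)) := by
  have h' : ξ.base default ∈ Set.range W.ι.base := by
    rw [Scheme.Opens.range_ι]; exact h
  haveI := GrothLib.ExtZero.isIso_stalk_counit W.ι (EtCoh.const X ℤ) ξ h'
  rw [aW, adj, Adjunction.homEquiv_ofNatIsoRight_symm_apply, Adjunction.homEquiv_counit,
    Functor.map_comp]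
  infer_instance

theorem subsingleton_stalk_AW (h : ξ.base default ∉ W) :
    Subsingleton ((EtCoh.stalk ξ).obj (AW W) :) := by
  have h' : ξ.base default ∉ Set.range W.ι.base := by
    rw [Scheme.Opens.range_ι]; exact h
  exact AddCommGrpCat.subsingleton_of_isZero
    (GrothLib.ExtZero.stalk_extZero_isZero W.ι _ ξ (GrothLib.ExtZero.ne_of_notMem_range W.ι ξ h'))

theorem bijective_stalk_aW (h : ξ.base default ∈ W) :
    Function.Bijective ((EtCoh.stalk ξ).map (aW W)) := by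
  haveI := isIso_stalk_aW ξ W h
  exact (ConcreteCategory.isIso_iff_bijective _).1 inferInstance

end stalk

variable (U V : X.Opens)

/-- `0 → ℤ_{U∩V} → ℤ_U ⊕ ℤ_V → ℤ → 0`. -/
def mvSeq : ShortComplex (EtCoh.Ab X) :=
  ShortComplex.mk (biprod.lift (bW (inf_le_left : U ⊓ V ≤ U)) (-bW (inf_le_right : U ⊓ V ≤ V)))
    (biprod.desc (aW U) (aW V))
    (by rw [biprod.lift_desc, Preadditive.neg_comp, bW_aW, bW_aW, add_neg_cancel])

theorem stalk_mvSeq :
    ∀ (Ω : Type u) [Field Ω] [IsSepClosed Ω] (ξ : Spec (CommRingCat.of Ω) ⟶ X),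
      Function.Injective ((EtCoh.stalk ξ).map (mvSeq U V).f) ∧
        (ξ.base default ∈ U ⊔ V → Function.Surjective ((EtCoh.stalk ξ).map (mvSeq U V).g)) ∧
          ((mvSeq U V).map (EtCoh.stalk ξ)).Exact := by
    intro Ω _ _ ξ
    let S := EtCoh.stalk ξ
    let x := ξ.base default
    let au := S.map (aW U); let av := S.map (aW V); let aw := S.map (aW (U ⊓ V))
    let bu := S.map (bW (inf_le_left : U ⊓ V ≤ U)); let bv := S.map (bW (inf_le_right : U ⊓ V ≤ V))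
    let p₁ := S.map (biprod.fst : AW U ⊞ AW V ⟶ AW U); let p₂ := S.map (biprod.snd : AW U ⊞ AW V ⟶ AW V)
    let i₁ := S.map (biprod.inl : AW U ⟶ AW U ⊞ AW V); let i₂ := S.map (biprod.inr : AW V ⟶ AW U ⊞ AW V)
    have hbu : ∀ w, au (bu w) = aw w := fun w =>
      (ConcreteCategory.congr_hom (S.map_comp _ _) w).symm.trans
        (by rw [bW_aW])
    have hbv : ∀ w, av (bv w) = aw w := fun w =>
      (ConcreteCategory.congr_hom (S.map_comp _ _) w).symm.trans
        (by rw [bW_aW])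
    have hdec : ∀ t, t = i₁ (p₁ t) + i₂ (p₂ t) := fun t => by
      have := ConcreteCategory.congr_hom (congrArg S.map (biprod.total (X := AW U) (Y := AW V))) t
      rw [S.map_add, S.map_id, S.map_comp, S.map_comp] at this
      exact this.symm
    have hf₁ : ∀ w, p₁ (S.map (mvSeq U V).f w) = bu w := fun w =>
      (ConcreteCategory.congr_hom (S.map_comp _ _) w).symm.trans
        (by rw [show (mvSeq U V).f ≫ biprod.fst = bW inf_le_left from biprod.lift_fst _ _]; rfl)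
    have hf₂ : ∀ w, p₂ (S.map (mvSeq U V).f w) = - bv w := fun w =>
      (ConcreteCategory.congr_hom (S.map_comp _ _) w).symm.trans
        (by rw [show (mvSeq U V).f ≫ biprod.snd = -bW inf_le_right from biprod.lift_snd _ _, S.map_neg]; rfl)
    have hg₁ : ∀ s, S.map (mvSeq U V).g (i₁ s) = au s := fun s =>
      (ConcreteCategory.congr_hom (S.map_comp _ _) s).symm.trans
        (by rw [show biprod.inl ≫ (mvSeq U V).g = aW U from biprod.inl_desc _ _]; rfl)
    have hg₂ : ∀ s, S.map (mvSeq U V).g (i₂ s) = av s := fun s =>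
      (ConcreteCategory.congr_hom (S.map_comp _ _) s).symm.trans
        (by rw [show biprod.inr ≫ (mvSeq U V).g = aW V from biprod.inr_desc _ _]; rfl)
    have hg : ∀ t, S.map (mvSeq U V).g t = au (p₁ t) + av (p₂ t) := fun t => by
      conv_lhs => rw [hdec t]
      rw [map_add, hg₁, hg₂]
    have hAu : x ∉ U → ∀ s : S.obj (AW U), s = 0 := fun h s => @Subsingleton.elim _ (subsingleton_stalk_AW ξ U h) s 0
    have hAv : x ∉ V → ∀ s : S.obj (AW V), s = 0 := fun h s => @Subsingleton.elim _ (subsingleton_stalk_AW ξ V h) s 0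
    refine ⟨fun w w' h => ?_, fun hT z => ?_, ?_⟩
    · by_cases hw : x ∈ U ⊓ V
      · refine (bijective_stalk_aW ξ _ hw).1 ?_
        change aw w = aw w'
        rw [← hbu, ← hbu, ← hf₁, ← hf₁, h]
      · exact @Subsingleton.elim _ (subsingleton_stalk_AW ξ _ hw) w w'
    · rcases (hT : x ∈ U ⊔ V) with h | h
      · obtain ⟨s, hs⟩ := (bijective_stalk_aW ξ U h).2 z
        exact ⟨i₁ s, (hg₁ s).trans hs⟩
      · obtain ⟨s, hs⟩ := (bijective_stalk_aW ξ V h).2 z
        exact ⟨i₂ s, (hg₂ s).trans hs⟩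
    · rw [ShortComplex.ab_exact_iff]
      intro t ht
      change S.map (mvSeq U V).g t = 0 at ht
      rw [hg] at ht
      have fin : ∀ w, bu w = p₁ t → -bv w = p₂ t → S.map (mvSeq U V).f w = t := fun w h₁ h₂ => by
        refine (hdec _).trans (Eq.trans ?_ (hdec t).symm)
        rw [hf₁, hf₂, h₁, h₂]
      by_cases hu : x ∈ U
      · by_cases hv : x ∈ V
        · obtain ⟨w, hw⟩ := (bijective_stalk_aW ξ (U ⊓ V) ⟨hu, hv⟩).2 (au (p₁ t))
          refine ⟨w, fin w ((bijective_stalk_aW ξ U hu).1 ((hbu w).trans hw))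
            ((bijective_stalk_aW ξ V hv).1 ?_)⟩
          change av (- bv w) = av (p₂ t)
          rw [map_neg, hbv]
          exact (congrArg Neg.neg hw).trans (eq_neg_of_add_eq_zero_right ht).symm
        · rw [hAv hv (p₂ t), map_zero, add_zero] at ht
          refine ⟨0, fin 0 ?_ ((map_zero _).trans (hAv hv _).symm |> fun e => by rw [e, neg_zero]; exact (hAv hv _).symm)⟩
          rw [map_zero]
          exact ((bijective_stalk_aW ξ U hu).1 (ht.trans (map_zero au.hom).symm)).symm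
      · rw [hAu hu (p₁ t), map_zero, zero_add] at ht
        refine ⟨0, fin 0 ((map_zero _).trans (hAu hu _).symm) ?_⟩
        rw [map_zero, neg_zero]
        by_cases hv : x ∈ V
        · exact ((bijective_stalk_aW ξ V hv).1 (ht.trans (map_zero av.hom).symm)).symm
        · exact (hAv hv _).symm

theorem shortExact_mvSeq (hUV : U ⊔ V = ⊤) : (mvSeq U V).ShortExact := by
  have key := stalk_mvSeq U V
  refine { exact := GrothLib.EtSite.shortComplex_exact_of_stalks _ fun Ω _ _ ξ => (key Ω ξ).2.2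
           mono_f := GrothLib.EtSite.mono_of_stalks _ fun Ω _ _ ξ => (key Ω ξ).1
           epi_g := GrothLib.EtSite.epi_of_stalks _ fun Ω _ _ ξ => (key Ω ξ).2.1 (hUV.ge (trivial : ξ.base default ∈ (⊤ : X.Opens))) }

section cohomology

variable (F : EtCoh.Ab X)

/-- `Ext^n(j_!ℤ, F) = H^n(W, F|W)`. -/
def psi (W : X.Opens) (n : ℕ) :
    Ext.{u + 1} (AW W) F n ≃+ EtCoh.H W.toScheme ((EtCoh.pull W.ι).obj F) n :=
  haveI := GrothLib.ExtZero.preservesFiniteLimits_extZero W.ι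
  haveI : (EtShriek.restrAlong W.ι).Additive := (GrothLib.ExtZero.restrPushAdj W.ι).left_adjoint_additive
  haveI : (EtShriek.extZero W.ι).Additive := (EtShriek.extZeroAdj W.ι).left_adjoint_additive
  haveI : PreservesColimitsOfSize.{0, 0} (EtShriek.extZero W.ι) := (EtShriek.extZeroAdj W.ι).leftAdjoint_preservesColimits
  haveI : PreservesFiniteColimits (EtShriek.extZero W.ι) := PreservesColimitsOfSize.preservesFiniteColimits _
  haveI := GrothLib.EtSite.pull_preservesFiniteLimits W.ι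
  AddEquiv.ofBijective (unitMap (adj W) (EtCoh.const W.toScheme ℤ) F n) (bijective_unitMap (adj W) _ F n)

theorem Hpull_apply {A B : Scheme.{u}} (f : A ⟶ B) [PreservesFiniteLimits (EtCoh.pull f)] (G : EtCoh.Ab B)
    (n : ℕ) (y : EtCoh.H B G n) :
    EtCore.Hpull f G n y = (Ext.mk₀ (EtCore.pullConst f ℤ).inv).comp (y.mapExactFunctor (EtCoh.pull f)) (zero_add n) :=
  rfl

theorem HpullVia_apply {A B Z : Scheme.{u}} (f : A ⟶ B) (t : B ⟶ Z) (f₀ : A ⟶ Z) (w : f ≫ t = f₀)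
    [PreservesFiniteLimits (EtCoh.pull f)] (G : EtCoh.Ab Z) (n : ℕ) (y : EtCoh.H B ((EtCoh.pull t).obj G) n) :
    EtCore.HpullVia f t f₀ w G n y = Ext.comp (EtCore.Hpull f ((EtCoh.pull t).obj G) n y)
      (Ext.mk₀ (((EtCore.pullComp f t).symm ≪≫ EtCore.pullCongr w).hom.app G)) (add_zero n) :=
  rfl

theorem psi_apply (W : X.Opens) [PreservesFiniteLimits (EtCoh.pull W.ι)] (n : ℕ) (z : Ext.{u + 1} (AW W) F n) :
    psi F W n z = (Ext.mk₀ ((adj W).unit.app _)).comp (z.mapExactFunctor (EtCoh.pull W.ι)) (zero_add n) :=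
  rfl

theorem Hpull_eq (W : X.Opens) [PreservesFiniteLimits (EtCoh.pull W.ι)] (n : ℕ) (x : EtCoh.H X F n) :
    EtCore.Hpull W.ι F n x = psi F W n ((Ext.mk₀ (aW W)).comp x (zero_add n)) := by
  rw [psi_apply, Ext.mapExactFunctor_comp, Ext.mapExactFunctor_mk₀, Ext.mk₀_comp_mk₀_assoc, homEquiv_aW]
  simp only [EtCore.Hpull, AddMonoidHom.comp_apply, AddMonoidHom.mk'_apply, Functor.mapExtAddHom_apply]

theorem HpullVia_comp {A B Z : Scheme.{u}} (f : A ⟶ B) (t : B ⟶ Z) (f₀ : A ⟶ Z) (w : f ≫ t = f₀)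
    [PreservesFiniteLimits (EtCoh.pull f)] [PreservesFiniteLimits (EtCoh.pull t)]
    [PreservesFiniteLimits (EtCoh.pull f₀)] {K G : EtCoh.Ab Z} {P : EtCoh.Ab B}
    (η : P ⟶ (EtCoh.pull t).obj K) (n : ℕ) (z : Ext.{u + 1} K G n)
    (p : EtCoh.const A ℤ ⟶ (EtCoh.pull f).obj P) :
    ((Ext.mk₀ p).comp (((Ext.mk₀ η).comp (z.mapExactFunctor (EtCoh.pull t)) (zero_add n)).mapExactFunctor
      (EtCoh.pull f)) (zero_add n)).comp
        (Ext.mk₀ (((EtCore.pullComp f t).symm ≪≫ EtCore.pullCongr w).hom.app G)) (add_zero n) =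
      (Ext.mk₀ (p ≫ (EtCoh.pull f).map η ≫ (((EtCore.pullComp f t).symm ≪≫ EtCore.pullCongr w).app K).hom)).comp
        (z.mapExactFunctor (EtCoh.pull f₀)) (zero_add n) := by
  haveI : PreservesFiniteLimits (EtCoh.pull t ⋙ EtCoh.pull f) := comp_preservesFiniteLimits _ _
  haveI : PreservesFiniteColimits (EtCoh.pull t ⋙ EtCoh.pull f) := comp_preservesFiniteColimits _ _
  let c := (EtCore.pullComp f t).symm ≪≫ EtCore.pullCongr w
  have hn := GrothLib.PullH25.mapExactFunctor_natTrans (EtCoh.pull f₀) c.hom z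
  rw [Ext.mapExactFunctor_comp, Ext.mapExactFunctor_mk₀, GrothLib.PullH25.mapExactFunctor_mapExactFunctor,
    Ext.comp_assoc_of_third_deg_zero, Ext.comp_assoc_of_third_deg_zero, Iso.app_hom,
    ← Ext.mk₀_comp_mk₀_assoc p, ← Ext.mk₀_comp_mk₀_assoc ((EtCoh.pull f).map η)]
  exact congrArg (fun k => (Ext.mk₀ p).comp
    ((Ext.mk₀ ((EtCoh.pull f).map η)).comp k (zero_add n)) (zero_add n)) hn.symm

theorem HpullVia_eq {W U : X.Opens} (h : W ≤ U) [PreservesFiniteLimits (EtCoh.pull W.ι)]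
    [PreservesFiniteLimits (EtCoh.pull U.ι)] [PreservesFiniteLimits (EtCoh.pull (X.homOfLE h))] (n : ℕ)
    (z : Ext.{u + 1} (AW U) F n) :
    EtCore.HpullVia (X.homOfLE h) U.ι W.ι (X.homOfLE_ι h) F n (psi F U n z) =
      psi F W n ((Ext.mk₀ (bW h)).comp z (zero_add n)) := by
  rw [psi_apply, psi_apply, Ext.mapExactFunctor_comp, Ext.mapExactFunctor_mk₀, Ext.mk₀_comp_mk₀_assoc,
    homEquiv_bW, HpullVia_apply, Hpull_apply]
  exact HpullVia_comp (X.homOfLE h) U.ι W.ι (X.homOfLE_ι h) ((adj U).unit.app _) n z _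

theorem exists_delta (hUV : U ⊔ V = ⊤)
    [PreservesFiniteLimits (EtCoh.pull U.ι)] [PreservesFiniteLimits (EtCoh.pull V.ι)]
    [PreservesFiniteLimits (EtCoh.pull (X.homOfLE (inf_le_left : U ⊓ V ≤ U)))]
    [PreservesFiniteLimits (EtCoh.pull (X.homOfLE (inf_le_right : U ⊓ V ≤ V)))] :
    ∃ δ : ∀ n : ℕ, EtCoh.H ↑(U ⊓ V) ((EtCoh.pull (U ⊓ V).ι).obj F) n →+ EtCoh.H X F (n + 1),
      (AddMonoidHom.prod (EtCore.Hpull U.ι F 0) (EtCore.Hpull V.ι F 0)).ker = ⊥ ∧
      (∀ n : ℕ, (AddMonoidHom.prod (EtCore.Hpull U.ι F (n + 1)) (EtCore.Hpull V.ι F (n + 1))).ker = (δ n).range) ∧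
      (∀ n : ℕ, (((EtCore.HpullVia (X.homOfLE (inf_le_left : U ⊓ V ≤ U)) U.ι (U ⊓ V).ι (X.homOfLE_ι inf_le_left) F n)).comp (AddMonoidHom.fst _ _) - ((EtCore.HpullVia (X.homOfLE (inf_le_right : U ⊓ V ≤ V)) V.ι (U ⊓ V).ι (X.homOfLE_ι inf_le_right) F n)).comp (AddMonoidHom.snd _ _)).ker =
        (AddMonoidHom.prod (EtCore.Hpull U.ι F n) (EtCore.Hpull V.ι F n)).range) ∧
      (∀ n : ℕ, (δ n).ker = (((EtCore.HpullVia (X.homOfLE (inf_le_left : U ⊓ V ≤ U)) U.ι (U ⊓ V).ι (X.homOfLE_ι inf_le_left) F n)).comp (AddMonoidHom.fst _ _) - ((EtCore.HpullVia (X.homOfLE (inf_le_right : U ⊓ V ≤ V)) V.ι (U ⊓ V).ι (X.homOfLE_ι inf_le_right) F n)).comp (AddMonoidHom.snd _ _)).range) := by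
  haveI := GrothLib.EtSite.pull_preservesFiniteLimits (U ⊓ V).ι
  have hS := shortExact_mvSeq U V hUV
  let S := mvSeq U V
  -- the components of a class on `j_!ℤ ⊕ j'_!ℤ`
  have split : ∀ {n : ℕ} (z : Ext.{u + 1} S.X₂ F n),
      (Ext.mk₀ biprod.fst).comp ((Ext.mk₀ (biprod.inl : AW U ⟶ AW U ⊞ AW V)).comp z (zero_add n)) (zero_add n) +
      (Ext.mk₀ biprod.snd).comp ((Ext.mk₀ (biprod.inr : AW V ⟶ AW U ⊞ AW V)).comp z (zero_add n)) (zero_add n) = z := by
    intro n z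
    rw [Ext.mk₀_comp_mk₀_assoc, Ext.mk₀_comp_mk₀_assoc, ← Ext.add_comp, ← Ext.mk₀_add, biprod.total]
    exact Ext.mk₀_id_comp z
  have hgl : ∀ {n : ℕ} (x : EtCoh.H X F n), (Ext.mk₀ (biprod.inl : AW U ⟶ AW U ⊞ AW V)).comp
      ((Ext.mk₀ S.g).comp x (zero_add n)) (zero_add n) = (Ext.mk₀ (aW U)).comp x (zero_add n) := fun x => by
    rw [Ext.mk₀_comp_mk₀_assoc]
    exact congrArg (fun k => (Ext.mk₀ k).comp x (zero_add _)) (biprod.inl_desc _ _)
  have hgr : ∀ {n : ℕ} (x : EtCoh.H X F n), (Ext.mk₀ (biprod.inr : AW V ⟶ AW U ⊞ AW V)).comp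
      ((Ext.mk₀ S.g).comp x (zero_add n)) (zero_add n) = (Ext.mk₀ (aW V)).comp x (zero_add n) := fun x => by
    rw [Ext.mk₀_comp_mk₀_assoc]
    exact congrArg (fun k => (Ext.mk₀ k).comp x (zero_add _)) (biprod.inr_desc _ _)
  have hker : ∀ {n : ℕ} (x : EtCoh.H X F n),
      x ∈ (AddMonoidHom.prod (EtCore.Hpull U.ι F n) (EtCore.Hpull V.ι F n)).ker ↔
        (Ext.mk₀ S.g).comp x (zero_add n) = 0 := by
    intro n x
    rw [AddMonoidHom.mem_ker, AddMonoidHom.prod_apply, Prod.mk_eq_zero, Hpull_eq, Hpull_eq,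
      map_eq_zero_iff _ (psi F U n).injective, map_eq_zero_iff _ (psi F V n).injective]
    constructor
    · rintro ⟨h₁, h₂⟩
      rw [← split ((Ext.mk₀ S.g).comp x (zero_add n)), hgl, hgr, h₁, h₂, Ext.comp_zero, Ext.comp_zero, add_zero]
    · intro h
      rw [← hgl, ← hgr, h, Ext.comp_zero, Ext.comp_zero]
      exact ⟨rfl, rfl⟩
  have hSf : ∀ {n : ℕ} (z : Ext.{u + 1} S.X₂ F n), (Ext.mk₀ S.f).comp z (zero_add n) =
      (Ext.mk₀ (bW inf_le_left)).comp ((Ext.mk₀ (biprod.inl : AW U ⟶ AW U ⊞ AW V)).comp z (zero_add n)) (zero_add n) -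
      (Ext.mk₀ (bW inf_le_right)).comp ((Ext.mk₀ (biprod.inr : AW V ⟶ AW U ⊞ AW V)).comp z (zero_add n)) (zero_add n) := by
    intro n z
    rw [Ext.mk₀_comp_mk₀_assoc, Ext.mk₀_comp_mk₀_assoc, sub_eq_add_neg, ← Ext.neg_comp, ← Ext.mk₀_neg,
      ← Ext.add_comp, ← Ext.mk₀_add]
    exact congrArg (fun k => (Ext.mk₀ k).comp z (zero_add n))
      ((biprod.lift_eq (f := bW (inf_le_left : U ⊓ V ≤ U)) (g := -bW (inf_le_right : U ⊓ V ≤ V))).trans (by rw [Preadditive.neg_comp]))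
  have hdiff : ∀ {n : ℕ} (z : Ext.{u + 1} S.X₂ F n),
      (((EtCore.HpullVia (X.homOfLE (inf_le_left : U ⊓ V ≤ U)) U.ι (U ⊓ V).ι (X.homOfLE_ι inf_le_left) F n)).comp (AddMonoidHom.fst (EtCoh.H U.toScheme ((EtCoh.pull U.ι).obj F) n) (EtCoh.H V.toScheme ((EtCoh.pull V.ι).obj F) n)) - ((EtCore.HpullVia (X.homOfLE (inf_le_right : U ⊓ V ≤ V)) V.ι (U ⊓ V).ι (X.homOfLE_ι inf_le_right) F n)).comp (AddMonoidHom.snd (EtCoh.H U.toScheme ((EtCoh.pull U.ι).obj F) n) (EtCoh.H V.toScheme ((EtCoh.pull V.ι).obj F) n)))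
        (psi F U n ((Ext.mk₀ (biprod.inl : AW U ⟶ AW U ⊞ AW V)).comp z (zero_add n)),
          psi F V n ((Ext.mk₀ (biprod.inr : AW V ⟶ AW U ⊞ AW V)).comp z (zero_add n))) =
        psi F (U ⊓ V) n ((Ext.mk₀ S.f).comp z (zero_add n)) := by
    intro n z
    rw [AddMonoidHom.sub_apply, AddMonoidHom.comp_apply, AddMonoidHom.comp_apply, AddMonoidHom.coe_fst,
      AddMonoidHom.coe_snd, HpullVia_eq, HpullVia_eq, ← map_sub]
    congr 1
    exact (hSf z).symm
  let δ : ∀ n : ℕ, EtCoh.H ↑(U ⊓ V) ((EtCoh.pull (U ⊓ V).ι).obj F) n →+ EtCoh.H X F (n + 1) := fun n =>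
    (hS.extClass.precomp F (add_comm 1 n)).comp (psi F (U ⊓ V) n).symm.toAddMonoidHom
  have hδ : ∀ n y, δ n y = hS.extClass.comp ((psi F (U ⊓ V) n).symm y) (add_comm 1 n) := fun _ _ => rfl
  refine ⟨δ, ?_, fun n => ?_, fun n => ?_, fun n => ?_⟩
  · rw [eq_bot_iff]
    intro x hx
    haveI : Epi S.g := hS.epi_g
    exact AddSubgroup.mem_bot.2 (Ext.precomp_mk₀_injective_of_epi F S.g
      (((hker x).1 hx).trans (map_zero _).symm))
  · ext x
    rw [hker, AddMonoidHom.mem_range]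
    constructor
    · intro h
      obtain ⟨w, rfl⟩ := Ext.contravariant_sequence_exact₃ hS F x h (add_comm 1 n)
      exact ⟨psi F (U ⊓ V) n w, by rw [hδ, AddEquiv.symm_apply_apply]⟩
    · rintro ⟨y, rfl⟩
      rw [hδ]
      exact hS.comp_extClass_assoc _ _
  · ext p
    obtain ⟨y₁, y₂⟩ := p
    obtain ⟨z₁, rfl⟩ := (psi F U n).surjective y₁
    obtain ⟨z₂, rfl⟩ := (psi F V n).surjective y₂
    rw [AddMonoidHom.mem_ker, AddMonoidHom.mem_range]
    constructor
    · intro h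
      let z : Ext.{u + 1} S.X₂ F n :=
        (Ext.mk₀ biprod.fst).comp z₁ (zero_add n) + (Ext.mk₀ biprod.snd).comp z₂ (zero_add n)
      have e₁ : (Ext.mk₀ (biprod.inl : AW U ⟶ AW U ⊞ AW V)).comp z (zero_add n) = z₁ := by
        rw [Ext.comp_add, Ext.mk₀_comp_mk₀_assoc, Ext.mk₀_comp_mk₀_assoc, biprod.inl_fst, biprod.inl_snd,
          Ext.mk₀_zero, Ext.zero_comp, add_zero, Ext.mk₀_id_comp]
      have e₂ : (Ext.mk₀ (biprod.inr : AW V ⟶ AW U ⊞ AW V)).comp z (zero_add n) = z₂ := by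
        rw [Ext.comp_add, Ext.mk₀_comp_mk₀_assoc, Ext.mk₀_comp_mk₀_assoc, biprod.inr_fst, biprod.inr_snd,
          Ext.mk₀_zero, Ext.zero_comp, zero_add, Ext.mk₀_id_comp]
      have h' := hdiff z
      rw [e₁, e₂] at h'
      obtain ⟨x, hx⟩ := Ext.contravariant_sequence_exact₂ hS F z
        ((psi F (U ⊓ V) n).injective (((h'.symm.trans h)).trans (map_zero _).symm))
      refine ⟨x, ?_⟩
      rw [AddMonoidHom.prod_apply, Hpull_eq, Hpull_eq, ← hgl, ← hgr, hx, e₁, e₂]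
    · rintro ⟨x, hx⟩
      rw [AddMonoidHom.prod_apply, Hpull_eq, Hpull_eq, ← hgl, ← hgr] at hx
      refine (congrArg _ hx.symm).trans ((hdiff _).trans ?_)
      rw [Ext.mk₀_comp_mk₀_assoc, S.zero, Ext.mk₀_zero, Ext.zero_comp, map_zero]
  · ext y
    obtain ⟨w, rfl⟩ := (psi F (U ⊓ V) n).surjective y
    rw [AddMonoidHom.mem_ker, hδ, AddEquiv.symm_apply_apply, AddMonoidHom.mem_range]
    constructor
    · intro h
      obtain ⟨z, hz⟩ := Ext.contravariant_sequence_exact₁ hS F w (add_comm 1 n) h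
      exact ⟨_, (hdiff z).trans (congrArg _ hz)⟩
    · rintro ⟨⟨y₁, y₂⟩, hp⟩
      obtain ⟨z₁, rfl⟩ := (psi F U n).surjective y₁
      obtain ⟨z₂, rfl⟩ := (psi F V n).surjective y₂
      rw [AddMonoidHom.sub_apply, AddMonoidHom.comp_apply, AddMonoidHom.comp_apply, AddMonoidHom.coe_fst,
        AddMonoidHom.coe_snd, HpullVia_eq, HpullVia_eq, ← map_sub] at hp
      have hw := (psi F (U ⊓ V) n).injective hp
      have : (Ext.mk₀ S.f).comp ((Ext.mk₀ biprod.fst).comp z₁ (zero_add n) +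
          (Ext.mk₀ biprod.snd).comp z₂ (zero_add n)) (zero_add n) = w := by
        refine (hSf _).trans (Eq.trans ?_ hw)
        simp only [Ext.comp_add, Ext.mk₀_comp_mk₀_assoc, biprod.inl_fst, biprod.inl_snd, biprod.inr_fst,
          biprod.inr_snd, Ext.mk₀_zero, Ext.zero_comp, Category.comp_id, comp_zero, add_zero, zero_add,
          Ext.mk₀_id_comp]
      rw [← this]
      exact hS.extClass_comp_assoc _

end cohomology

end GrothLib.EtDer.MV
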