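import Groth.Agent.Lib.EtDer.Henselian
import Groth.Prelude.Def_EtAcyc

/-!
# `Hpull` and short exact sequences; torsion sheaves
-/

set_option autoImplicit false
set_option backward.isDefEq.respectTransparency false
universe u

open CategoryTheory CategoryTheory.Limits CategoryTheory.Abelian AlgebraicGeometry Opposite

namespace GrothLib.EtDer

variable {X Y : Scheme.{u}}

/-- A quotient of an `L`-torsion sheaf is `L`-torsion. -/
theorem isLTorsion_of_epi (L : Set ℕ) {F G : EtCoh.Ab X} (π : F ⟶ G) [Epi π]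
    (hF : EtAcyc.IsLTorsion L F) : EtAcyc.IsLTorsion L G := by
  intro U s x
  have hloc : Sheaf.IsLocallySurjective π := (Sheaf.isLocallySurjective_iff_epi' _ π).2 inferInstance
  obtain ⟨V, g, v, hg, hv⟩ := (GrothLib.EtSite.mem_topology_iff _).1
    (Presheaf.imageSieve_mem X.smallEtaleTopology π.hom (U := op U) s) x
  obtain ⟨r, hr⟩ := hg
  obtain ⟨V', g', m, ⟨v', hv'⟩, hm, hz⟩ := hF V r v
  refine ⟨V', g' ≫ g, m, ⟨v', ?_⟩, hm, ?_⟩
  · exact (congrArg g.left.base hv').trans hv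
  · rw [op_comp, Functor.map_comp_apply, ← hr, ← NatTrans.naturality_apply, ← map_nsmul, hz, map_zero]

/-- A class in the range after applying a monomorphism is in the range. -/
theorem mem_range_Hpull_of_mono (h : Y ⟶ X) [PreservesFiniteLimits (EtCoh.pull h)]
    {S : ShortComplex (EtCoh.Ab X)} (hS : S.ShortExact) (n : ℕ)
    (hi : Function.Injective (EtCore.Hpull h S.X₃ (n + 1)))
    (hs : Function.Surjective (EtCore.Hpull h S.X₃ n))
    (ξ : EtCoh.H Y ((EtCoh.pull h).obj S.X₁) (n + 1))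
    (hξ : Ext.comp ξ (Ext.mk₀ ((EtCoh.pull h).map S.f)) (add_zero (n + 1)) ∈ Set.range (EtCore.Hpull h S.X₂ (n + 1))) :
    ξ ∈ Set.range (EtCore.Hpull h S.X₁ (n + 1)) := by
  have hS' := hS.map_of_exact (EtCoh.pull h)
  obtain ⟨y, hy⟩ := hξ
  have hy0 : Ext.comp y (Ext.mk₀ S.g) (add_zero (n + 1)) = 0 := by
    apply hi
    rw [map_zero, Hpull_mk₀, hy, Ext.comp_assoc_of_second_deg_zero, Ext.mk₀_comp_mk₀,
      ← Functor.map_comp, S.zero, Functor.map_zero, Ext.mk₀_zero, Ext.comp_zero]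
  obtain ⟨x, rfl⟩ := Ext.covariant_sequence_exact₂ _ hS y hy0
  have : Ext.comp (ξ - EtCore.Hpull h S.X₁ (n + 1) x) (Ext.mk₀ (S.map (EtCoh.pull h)).f) (add_zero (n + 1)) = 0 := by
    rw [sub_eq_add_neg, Ext.add_comp, Ext.neg_comp, ← sub_eq_add_neg, sub_eq_zero]
    exact hy.symm.trans (Hpull_mk₀ h S.f (n + 1) x)
  obtain ⟨z, hz⟩ := Ext.covariant_sequence_exact₁ _ hS' _ this rfl
  obtain ⟨z', rfl⟩ := hs z
  refine ⟨Ext.comp z' hS.extClass rfl + x, ?_⟩
  rw [map_add, Hpull_extClass]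
  exact eq_sub_iff_add_eq.1 hz

end GrothLib.EtDer
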