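import Groth.Agent.Lib.FEt21.Normal

/-!
# Local rings of schemes etale over a normal scheme are normal domains
-/

set_option autoImplicit false
set_option backward.isDefEq.respectTransparency false
universe u

open CategoryTheory CategoryTheory.Limits AlgebraicGeometry Opposite TensorProduct

namespace GrothLib.EtDer

/-- A scheme etale over a normal (not necessarily integral) scheme is normal. -/
theorem isNormalScheme_etale {X Z : Scheme.{u}} (hX : Pi1.IsNormalScheme X) (g : Z ⟶ X) [Etale g] :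
    Pi1.IsNormalScheme Z := by
  intro z
  obtain ⟨_, ⟨V, hV, rfl⟩, hxV, -⟩ :=
    X.isBasis_affineOpens.exists_subset_of_mem_open (Set.mem_univ (g z)) isOpen_univ
  obtain ⟨_, ⟨W, hW, rfl⟩, hzW, hWV⟩ :=
    Z.isBasis_affineOpens.exists_subset_of_mem_open hxV (g ⁻¹ᵁ V).2
  have he := HasRingHomProperty.appLE @Etale g inferInstance ⟨V, hV⟩ ⟨W, hW⟩ hWV
  letI := (g.appLE V W hWV).hom.toAlgebra
  haveI : Algebra.Etale Γ(X, V) Γ(Z, W) := he
  letI := TopCat.Presheaf.algebra_section_stalk X.presheaf (⟨g z, hxV⟩ : V)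
  letI := TopCat.Presheaf.algebra_section_stalk Z.presheaf (⟨z, hzW⟩ : W)
  let A := X.presheaf.stalk (g z)
  let O := Z.presheaf.stalk z
  haveI := hV.isLocalization_stalk ⟨g z, hxV⟩
  haveI := hW.isLocalization_stalk ⟨z, hzW⟩
  let pV := (hV.primeIdealOf ⟨g z, hxV⟩).asIdeal
  let pW := (hW.primeIdealOf ⟨z, hzW⟩).asIdeal
  haveI : IsDomain A := (hX (g z)).1
  haveI : IsIntegrallyClosed A := (hX (g z)).2
  let M := Algebra.algebraMapSubmonoid Γ(Z, W) pV.primeCompl
  letI : Algebra Γ(Z, W) (A ⊗[Γ(X, V)] Γ(Z, W)) := Algebra.TensorProduct.rightAlgebra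
  haveI : IsLocalization M (A ⊗[Γ(X, V)] Γ(Z, W)) := inferInstance
  have hcomm : ∀ r : Γ(X, V), algebraMap Γ(Z, W) O (algebraMap Γ(X, V) Γ(Z, W) r) =
      (g.stalkMap z).hom (algebraMap Γ(X, V) A r) := fun r => by
    show (Z.presheaf.germ W z hzW).hom ((g.appLE V W hWV).hom r) =
      (g.stalkMap z).hom ((X.presheaf.germ V (g z) hxV).hom r)
    rw [Scheme.Hom.germ_stalkMap_apply g V z hxV r, Scheme.Hom.appLE]
    exact TopCat.Presheaf.germ_res_apply Z.presheaf (homOfLE hWV) z hzW _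
  have hunit : ∀ m : M, IsUnit (algebraMap Γ(Z, W) O m) := by
    rintro ⟨_, r, hr, rfl⟩
    rw [hcomm r]
    exact (IsLocalization.map_units A (⟨r, hr⟩ : pV.primeCompl)).map _
  let φ : A ⊗[Γ(X, V)] Γ(Z, W) →+* O := IsLocalization.lift (M := M) hunit
  letI : Algebra (A ⊗[Γ(X, V)] Γ(Z, W)) O := φ.toAlgebra
  haveI : IsScalarTower Γ(Z, W) (A ⊗[Γ(X, V)] Γ(Z, W)) O :=
    IsScalarTower.of_algebraMap_eq fun s => (IsLocalization.lift_eq hunit s).symm
  have hle : M ≤ pW.primeCompl := fun m hm =>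
    (IsLocalization.AtPrime.isUnit_to_map_iff O pW m).1 (hunit ⟨m, hm⟩)
  haveI := IsLocalization.isLocalization_of_submonoid_le (A ⊗[Γ(X, V)] Γ(Z, W)) O M pW.primeCompl hle
  let q : Ideal (A ⊗[Γ(X, V)] Γ(Z, W)) := (IsLocalRing.maximalIdeal O).comap φ
  haveI : q.IsPrime := Ideal.IsPrime.comap φ
  haveI : IsLocalization.AtPrime O q :=
    IsLocalization.of_le (pW.primeCompl.map (algebraMap Γ(Z, W) (A ⊗[Γ(X, V)] Γ(Z, W)))) q.primeCompl
      (by
        rintro _ ⟨s, hs, rfl⟩ h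
        refine h ?_
        show IsUnit (φ (algebraMap Γ(Z, W) _ s))
        rw [IsLocalization.lift_eq hunit s]
        exact IsLocalization.map_units O (⟨s, hs⟩ : pW.primeCompl))
      (fun r hr => IsLocalRing.notMem_maximalIdeal.1 hr)
  exact FEt21.isNormal_localization_of_etale A q O

end GrothLib.EtDer
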