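import Groth.Agent.Lib.EtDer.ConstSec
import Groth.Agent.Lib.EtDer.PullConst
import Groth.Agent.Lib.EtDer.NormalStalk
import Groth.Agent.Lib.GrpdQuot.InvariantOpen
import Mathlib.AlgebraicGeometry.PullbackCarrier
import Mathlib.AlgebraicGeometry.Morphisms.UniversallyOpen

/-!
# Constant sheaves on normal schemes are pushed forward from the generic points
-/

set_option autoImplicit false
set_option backward.isDefEq.respectTransparency false
universe u

open CategoryTheory CategoryTheory.Limits AlgebraicGeometry Opposite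
open GrothLib.EtSite

noncomputable section

namespace GrothLib.EtDer

variable {X Y : Scheme.{u}} (M : AddCommGrpCat.{u + 1}) (f : X ⟶ Y)

/-- The unit of pullback and pushforward on a constant sheaf, with constant target. -/
def constUnit : CM M Y ⟶ (EtCoh.push f).obj (CM M X) :=
  (EtCoh.pullPushAdj f).unit.app (CM M Y) ≫ (EtCoh.push f).map ((EtCore.pullConstIso f).hom.app M)

theorem constUnit_top (c : M) :
    (constUnit M f).hom.app (op (EtCoh.top Y)) (cst M (EtCoh.top Y) c) =
      cst M ((EtCoh.bc f).obj (EtCoh.top Y)) c := by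
  have key : (EtCore.gsec Y).map (constUnit M f) ≫ (EtCore.pushGsecIso f).hom.app (CM M X) =
      (EtCore.gsec Y).map ((EtCoh.pullPushAdj f).unit.app (CM M Y)) ≫
        (EtCore.pushGsecIso f).hom.app _ ≫ (EtCore.gsec X).map ((EtCore.pullConstIso f).hom.app M) := by
    rw [constUnit, Functor.map_comp, Category.assoc]
    exact congrArg (_ ≫ ·) ((EtCore.pushGsecIso f).hom.naturality ((EtCore.pullConstIso f).hom.app M))
  have h := unit_pullConst f M
  have h' : (EtCore.constAdj Y).unit.app M ≫ (EtCore.gsec Y).map (constUnit M f) ≫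
      (EtCore.pushGsecIso f).hom.app (CM M X) = (EtCore.constAdj X).unit.app M := by
    rw [key, ← reassoc_of% h, ← Functor.map_comp, Iso.inv_hom_id_app, CategoryTheory.Functor.map_id,
      Category.comp_id]
  have h'' := ConcreteCategory.congr_hom h' c
  rw [ConcreteCategory.comp_apply, ConcreteCategory.comp_apply, cst_top] at h''
  replace h'' := h''.trans (cst_top M c)
  rw [← map_cst M (EtCore.bcTopIso f).hom c, ← h'']
  show _ = (CM M X).obj.map (EtCore.bcTopIso f).hom.op ((CM M X).obj.map (EtCore.bcTopIso f).inv.op _)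
  rw [← Functor.map_comp_apply, ← op_comp, Iso.hom_inv_id, op_id, CategoryTheory.Functor.map_id,
    ConcreteCategory.id_apply]
  rfl

theorem constUnit_map {V W : Y.Etale} (g : W ⟶ V) (s : (CM M Y).obj.obj (op V)) :
    (constUnit M f).hom.app (op W) ((CM M Y).obj.map g.op s) =
      (CM M X).obj.map ((EtCoh.bc f).map g).op ((constUnit M f).hom.app (op V) s) :=
  ConcreteCategory.congr_hom ((constUnit M f).hom.naturality g.op) s

theorem constUnit_cst (V : Y.Etale) (c : M) :
    (constUnit M f).hom.app (op V) (cst M V c) = cst M ((EtCoh.bc f).obj V) c := by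
  rw [← map_cst M ((EtCore.topIsTerminal Y).from V), constUnit_map, constUnit_top, map_cst]

/-- The projection to `V` of its base change. -/
abbrev bcProj (V : Y.Etale) : ((EtCoh.bc f).obj V).left ⟶ V.left := pullback.fst V.hom f

theorem bc_map_fst {V W : Y.Etale} (g : W ⟶ V) :
    ((EtCoh.bc f).map g).left ≫ bcProj f V = bcProj f W ≫ g.left :=
  pullback.lift_fst _ _ _

theorem exists_bc_map_eq {V W : Y.Etale} (g : W ⟶ V) (w : ((EtCoh.bc f).obj V).left) (p : W.left)
    (hp : g.left.base p = (bcProj f V).base w) : ∃ q, ((EtCoh.bc f).map g).left.base q = w := by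
  have h : IsPullback (bcProj f W) ((EtCoh.bc f).map g).left g.left (bcProj f V) := by
    refine IsPullback.of_bot ?_ (bc_map_fst f g).symm (IsPullback.of_hasPullback V.hom f)
    rw [show ((EtCoh.bc f).map g).left ≫ pullback.snd V.hom f = pullback.snd W.hom f from
      pullback.lift_snd _ _ _, MorphismProperty.Over.w g]
    exact IsPullback.of_hasPullback W.hom f
  obtain ⟨z, -, hz⟩ := Scheme.Pullback.exists_preimage_pullback p w hp
  exact ⟨h.isoPullback.inv.base z, (congrArg (fun m => m.base z) h.isoPullback_inv_snd).trans hz⟩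

theorem val_constUnit (V : Y.Etale) (s : (CM M Y).obj.obj (op V)) (w : ((EtCoh.bc f).obj V).left) :
    val M _ ((constUnit M f).hom.app (op V) s) w = val M V s ((bcProj f V).base w) := by
  obtain ⟨O, c, hv, hs⟩ := exists_open_cst M V s ((bcProj f V).base w)
  obtain ⟨q, hq⟩ := exists_bc_map_eq f (opensHom V O) w ⟨_, hv⟩ rfl
  rw [val_eq M V s hs _ hv, ← hq, ← val_map, ← constUnit_map, hs, constUnit_cst, val_cst]

/-- In a scheme whose local rings are domains every point has a unique most generic generalization. -/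
theorem exists_generic {V : Scheme.{u}} (h : ∀ v : V, IsDomain (V.presheaf.stalk v)) (v : V) :
    ∃ η : V, η ⤳ v ∧ ∀ y : V, y ⤳ v → η ⤳ y := by
  haveI := h v
  refine ⟨(V.fromSpecStalk v).base (⊥ : PrimeSpectrum (V.presheaf.stalk v)),
    (V.range_fromSpecStalk (x := v)).subset ⟨_, rfl⟩, fun y hy => ?_⟩
  obtain ⟨q, rfl⟩ := (V.range_fromSpecStalk (x := v)).superset hy
  exact ((PrimeSpectrum.le_iff_specializes _ _).1 bot_le).map (V.fromSpecStalk v).continuous

theorem apply_eq_of_specializes {V : Scheme.{u}} {β : Type*} {φ : V → β} (hφ : IsLocallyConstant φ)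
    {x y : V} (h : x ⤳ y) : φ x = φ y :=
  h.mem_open (hφ {φ y}) rfl

variable {X' : Scheme.{u}} (e : X' ⟶ X)

theorem bijective_constUnit [IsPreimmersion f] [QuasiCompact (e ≫ f)] (hY : Pi1.IsNormalScheme Y)
    (hgen : ∀ p : Y, (∀ q : Y, q ⤳ p → q = p) → p ∈ Set.range (e ≫ f).base) (V : Y.Etale) :
    Function.Bijective ((constUnit M f).hom.app (op V)) := by
  haveI : Etale V.hom := V.prop
  let g := bcProj f V
  let g' : pullback V.hom (e ≫ f) ⟶ V.left := pullback.fst V.hom (e ≫ f)
  let k : pullback V.hom (e ≫ f) ⟶ ((EtCoh.bc f).obj V).left :=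
    pullback.lift (f := V.hom) (g := f) g' (pullback.snd V.hom (e ≫ f) ≫ e)
      (by rw [Category.assoc]; exact pullback.condition)
  have hk : k ≫ g = g' := pullback.lift_fst _ _ _
  choose η hη hη' using exists_generic (fun v => (isNormalScheme_etale hY V.hom v).1)
  have hmem : ∀ v, ∃ z, g'.base z = η v := fun v => by
    refine (Scheme.Pullback.range_fst (f := V.hom) (g := e ≫ f)).superset ?_
    refine hgen _ fun q hq => ?_
    obtain ⟨y, hy, rfl⟩ := (Flat.generalizingMap V.hom) hq
    exact congrArg V.hom.base (hy.antisymm (hη' v y (hy.trans (hη v)))).eq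
  choose z hz using hmem
  have hgk : ∀ a, g.base (k.base a) = g'.base a := fun a => congrArg (fun m => m.base a) hk
  refine ⟨fun s t h => ext_val M V s t fun v => ?_, fun t => ?_⟩
  · rw [← apply_eq_of_specializes (isLocallyConstant_val M V s) (hη v),
      ← apply_eq_of_specializes (isLocallyConstant_val M V t) (hη v), ← hz v, ← hgk, ← val_constUnit,
      ← val_constUnit, h]
  · let φ := val M _ t
    have hφ : IsLocallyConstant φ := isLocallyConstant_val M _ t
    let ψ : V.left → M := fun v => φ (k.base (z v))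
    have hψ : IsLocallyConstant ψ := (IsLocallyConstant.iff_exists_open _).2 fun v => by
      let S : Set ↥(pullback V.hom (e ≫ f)) := k.base ⁻¹' (φ ⁻¹' {ψ v}ᶜ)
      have hS : IsClosed S := ((hφ {ψ v}).isClosed_compl).preimage k.continuous
      refine ⟨(closure (g'.base '' S))ᶜ, isClosed_closure.isOpen_compl, fun hv => ?_, fun p hp => ?_⟩
      · obtain ⟨a, ha, hav⟩ := GrothLib.GrpdQuot.exists_specializes_of_mem_closure g' S hS v hv
        refine ha ?_
        have h1 : g.base (k.base (z v)) ⤳ g.base (k.base a) := by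
          rw [hgk, hgk, hz]; exact hη' v _ hav
        exact (apply_eq_of_specializes hφ (g.isEmbedding.isInducing.specializes_iff.1 h1)).symm
      · by_contra hne
        exact hp ((hη p).mem_closed isClosed_closure (subset_closure ⟨z p, hne, hz p⟩))
    obtain ⟨s, hs⟩ := exists_val M V ψ hψ
    refine ⟨s, ext_val M _ _ t fun w => ?_⟩
    rw [val_constUnit, hs]
    have h1 : g.base (k.base (z (g.base w))) ⤳ g.base w := by rw [hgk, hz]; exact hη _
    exact apply_eq_of_specializes hφ (g.isEmbedding.isInducing.specializes_iff.1 h1)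

/-- The constant sheaf on a normal scheme is pushed forward from a part containing all generic points. -/
theorem isIso_unit_const [IsPreimmersion f] [QuasiCompact (e ≫ f)] (hY : Pi1.IsNormalScheme Y)
    (hgen : ∀ p : Y, (∀ q : Y, q ⤳ p → q = p) → p ∈ Set.range (e ≫ f).base) :
    IsIso ((EtCoh.pullPushAdj f).unit.app (CM M Y)) := by
  haveI : IsIso (constUnit M f).hom := by
    haveI : ∀ V, IsIso ((constUnit M f).hom.app V) := fun V =>
      (ConcreteCategory.isIso_iff_bijective _).2 (bijective_constUnit M f e hY hgen V.unop)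
    exact NatIso.isIso_of_isIso_app _
  haveI : IsIso (constUnit M f) :=
    haveI : IsIso ((sheafToPresheaf _ _).map (constUnit M f)) := ‹IsIso (constUnit M f).hom›
    isIso_of_reflects_iso (constUnit M f) (sheafToPresheaf _ _)
  have : (EtCoh.pullPushAdj f).unit.app (CM M Y) =
      constUnit M f ≫ (EtCoh.push f).map ((EtCore.pullConstIso f).inv.app M) := by
    rw [constUnit, Category.assoc, ← Functor.map_comp, Iso.hom_inv_id_app]
    erw [CategoryTheory.Functor.map_id, Category.comp_id]
  rw [this]
  infer_instance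

end GrothLib.EtDer

namespace GrothLib.EtDer

variable {X Y : Scheme.{u}}

theorem quasiCompact_of_finite (f : X ⟶ Y) [Finite X] : QuasiCompact f :=
  ⟨fun _ _ _ => (Set.toFinite _).isCompact⟩

theorem isNormalScheme_of_isIntegral [IsIntegral X]
    (hN : ∀ x : X, IsIntegrallyClosed (X.presheaf.stalk x)) : Pi1.IsNormalScheme X :=
  fun x => ⟨inferInstance, hN x⟩

theorem mem_range_of_minimal [IsIntegral Y] (f : X ⟶ Y) (h : genericPoint Y ∈ Set.range f.base)
    (p : Y) (hp : ∀ q : Y, q ⤳ p → q = p) : p ∈ Set.range f.base :=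
  hp _ (genericPoint_specializes p) ▸ h

end GrothLib.EtDer
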