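import Groth.Agent.Lib.EtDer.MVLocal
import Mathlib.AlgebraicGeometry.Limits

/-!
# Surjectivity of restriction along open immersions for sheaves without first cohomology
-/

set_option autoImplicit false
set_option backward.isDefEq.respectTransparency false
universe u

open CategoryTheory CategoryTheory.Limits CategoryTheory.Abelian AlgebraicGeometry Opposite

noncomputable section

namespace GrothLib.EtDer

open MV

theorem exists_sub_of_subsingleton {D : Scheme.{u}} (U₁ U₂ : D.Opens) (h : U₁ ⊔ U₂ = ⊤) (G : EtCoh.Ab D)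
    (hG : Subsingleton (EtCoh.H D G 1)) (t : G.obj.obj (op (objW (U₁ ⊓ U₂)))) :
    ∃ a b, G.obj.map (homW (inf_le_left : U₁ ⊓ U₂ ≤ U₁)).op a -
      G.obj.map (homW (inf_le_right : U₁ ⊓ U₂ ≤ U₂)).op b = t := by
  let τ : AW (U₁ ⊓ U₂) ⟶ G := (elt _ G).symm
    (AddCommGrpCat.ofHom ((zmultiplesHom _ t).comp AddEquiv.ulift.toAddMonoidHom))
  have hS := shortExact_mvSeq U₁ U₂ h
  obtain ⟨x₂, hx₂⟩ := Ext.contravariant_sequence_exact₁ hS G (Ext.mk₀ τ) (add_zero 1)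
    (@Subsingleton.elim _ hG _ _)
  obtain ⟨φ, rfl⟩ := (Ext.mk₀_bijective _ _).2 x₂
  rw [Ext.mk₀_comp_mk₀] at hx₂
  have e : (mvSeq U₁ U₂).f ≫ φ = τ := (Ext.mk₀_bijective _ _).1 hx₂
  let φ₁ : AW U₁ ⟶ G := biprod.inl ≫ φ
  let φ₂ : AW U₂ ⟶ G := biprod.inr ≫ φ
  have e2 : bW (inf_le_left : U₁ ⊓ U₂ ≤ U₁) ≫ φ₁ = τ + bW (inf_le_right : U₁ ⊓ U₂ ≤ U₂) ≫ φ₂ := by
    rw [← e]
    show _ = biprod.lift _ _ ≫ φ + _
    rw [biprod.lift_eq, Preadditive.add_comp, Category.assoc, Category.assoc, Preadditive.neg_comp]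
    exact (neg_add_cancel_right _ _).symm
  refine ⟨elt U₁ G φ₁ ⟨1⟩, elt U₂ G φ₂ ⟨1⟩, ?_⟩
  have e3 := congrArg (fun k => elt (U₁ ⊓ U₂) G k ⟨1⟩) e2
  have hadd : ∀ a b : AW (U₁ ⊓ U₂) ⟶ G, elt _ G (a + b) = elt _ G a + elt _ G b := fun a b => by
    show (EtCore.constAdj _).homEquiv _ _ ((EtShriek.extZeroAdj _).homEquiv _ G (a + b)) = _
    haveI : (EtShriek.restrAlong (U₁ ⊓ U₂).ι).Additive :=
      (GrothLib.ExtZero.restrPushAdj (U₁ ⊓ U₂).ι).left_adjoint_additive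
    haveI : (EtCore.gsec (U₁ ⊓ U₂).toScheme).Additive := ⟨fun {_ _ _ _} => rfl⟩
    haveI : (EtShriek.extZero (U₁ ⊓ U₂).ι).Additive := (EtShriek.extZeroAdj _).left_adjoint_additive
    haveI : (constantSheaf (U₁ ⊓ U₂).toScheme.smallEtaleTopology AddCommGrpCat.{u + 1}).Additive :=
      (EtCore.constAdj _).left_adjoint_additive
    rw [show (EtShriek.extZeroAdj (U₁ ⊓ U₂).ι).homEquiv _ G (a + b) =
      (EtShriek.extZeroAdj _).homEquiv _ G a + (EtShriek.extZeroAdj _).homEquiv _ G b from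
      map_add ((EtShriek.extZeroAdj (U₁ ⊓ U₂).ι).homAddEquiv _ G) a b]
    exact map_add ((EtCore.constAdj (U₁ ⊓ U₂).toScheme).homAddEquiv _ _) _ _
  simp only [elt_bW_comp, hadd] at e3
  change G.obj.map _ (elt U₁ G φ₁ ⟨1⟩) = elt _ G τ ⟨1⟩ + G.obj.map _ (elt U₂ G φ₂ ⟨1⟩) at e3
  rw [e3, add_sub_cancel_right]
  simp only [τ, Equiv.apply_symm_apply]
  exact one_zsmul t

variable {X : Scheme.{u}}

/-- Restriction along an open immersion is surjective when `H¹` vanishes on etale schemes. -/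
theorem surjective_map_of_isOpenImmersion (F : EtCoh.Ab X)
    (hF : ∀ (W : X.Etale), Subsingleton (EtCoh.H W.left ((EtCoh.pull W.hom).obj F) 1))
    {U V : X.Etale} (g : V ⟶ U) [IsOpenImmersion g.left] :
    Function.Surjective (F.obj.map g.op).hom := fun t => by
  haveI : Etale U.hom := U.prop
  let G₀ := span g.left g.left
  let i₁ : U.left ⟶ pushout g.left g.left := pushout.inl g.left g.left
  let i₂ : U.left ⟶ pushout g.left g.left := pushout.inr g.left g.left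
  let D := pushout g.left g.left
  let p : D ⟶ X := pushout.desc U.hom U.hom rfl
  haveI : IsOpenImmersion i₁ := inferInstanceAs (IsOpenImmersion (colimit.ι G₀ WalkingSpan.left))
  haveI : IsOpenImmersion i₂ := inferInstanceAs (IsOpenImmersion (colimit.ι G₀ WalkingSpan.right))
  let U₁ := i₁.opensRange
  let U₂ := i₂.opensRange
  have hgi : g.left ≫ i₁ = g.left ≫ i₂ := pushout.condition
  have hp₁ : i₁ ≫ p = U.hom := pushout.inl_desc _ _ _
  have hp₂ : i₂ ≫ p = U.hom := pushout.inr_desc _ _ _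
  have hsup : U₁ ⊔ U₂ = ⊤ := by
    refine eq_top_iff.2 fun x _ => ?_
    obtain ⟨i, xi, rfl⟩ := Scheme.IsLocallyDirected.ι_jointly_surjective G₀ x
    obtain (_ | (_ | _)) := i
    · refine Or.inl ⟨g.left.base xi, ?_⟩
      exact congrArg (fun m => m.base xi) (colimit.w G₀ WalkingSpan.Hom.fst)
    · exact Or.inl ⟨xi, rfl⟩
    · exact Or.inr ⟨xi, rfl⟩
  have hU₁ : U₁.ι ≫ p = i₁.isoOpensRange.inv ≫ U.hom := by
    rw [← hp₁, ← Category.assoc, Scheme.Hom.isoOpensRange_inv_comp]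
  have hU₂ : U₂.ι ≫ p = i₂.isoOpensRange.inv ≫ U.hom := by
    rw [← hp₂, ← Category.assoc, Scheme.Hom.isoOpensRange_inv_comp]
  haveI : Etale p := IsZariskiLocalAtSource.of_iSup_eq_top (P := @Etale) (fun b : Bool => cond b U₁ U₂)
    (by rw [iSup_bool_eq]; exact hsup) (fun b => by
      cases b
      · show Etale (U₂.ι ≫ p)
        rw [hU₂]; infer_instance
      · show Etale (U₁.ι ≫ p)
        rw [hU₁]; infer_instance)
  haveI : EtShriek.JCont p := GrothLib.Constructible.jcont p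
  let G := (EtShriek.restrAlong p).obj F
  have hG : Subsingleton (EtCoh.H D G 1) := by
    let W : X.Etale := Scheme.Etale.mk p
    have h1 : Subsingleton (EtCoh.H D ((EtCoh.pull p).obj F) 1) := hF W
    let e := (GrothLib.ExtZero.restrIsoPull p).app F
    refine ⟨fun x y => ?_⟩
    have key : ∀ z : EtCoh.H D G 1, z = 0 := fun z => by
      have hz : z = (Ext.comp z (Ext.mk₀ e.hom) (add_zero 1)).comp (Ext.mk₀ e.inv) (add_zero 1) := by
        rw [Ext.comp_assoc_of_second_deg_zero, Ext.mk₀_comp_mk₀, Iso.hom_inv_id, Ext.comp_mk₀_id]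
      rw [hz, @Subsingleton.elim _ h1 (Ext.comp z (Ext.mk₀ e.hom) (add_zero 1)) 0, Ext.zero_comp]
    rw [key x, key y]
  have hl : Set.range (U₁ ⊓ U₂).ι.base ⊆ Set.range i₁.base := by
    rw [Scheme.Opens.range_ι]; exact fun x hx => hx.1
  let l := IsOpenImmersion.lift i₁ (U₁ ⊓ U₂).ι hl
  have hlg : Set.range l.base ⊆ Set.range g.left.base := by
    rintro _ ⟨x, rfl⟩
    obtain ⟨b, hb⟩ := x.2.2
    have e1 : i₁.base (l.base x) = i₂.base b :=
      ((congrArg (fun m => m.base x) (IsOpenImmersion.lift_fac i₁ (U₁ ⊓ U₂).ι hl)).trans hb.symm)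
    obtain ⟨k, fi, fj, z, hz, -⟩ :=
      (Scheme.IsLocallyDirected.ι_eq_ι_iff G₀ (i := WalkingSpan.left) (j := WalkingSpan.right)).1 e1
    obtain (_ | (_ | _)) := k
    · obtain rfl : fi = WalkingSpan.Hom.fst := Subsingleton.elim _ _
      exact ⟨z, hz⟩
    · cases fj
    · cases fi
  let m := IsOpenImmersion.lift g.left l hlg
  have hm : m ≫ g.left ≫ i₁ = (U₁ ⊓ U₂).ι := by
    rw [IsOpenImmersion.lift_fac_assoc, IsOpenImmersion.lift_fac]
  let T := EtShriek.compEtale p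
  let k : T.obj (objW (U₁ ⊓ U₂)) ⟶ V := MorphismProperty.Over.homMk m (by
    show m ≫ V.hom = (𝟙 _ ≫ (U₁ ⊓ U₂).ι) ≫ p
    rw [Category.id_comp, ← hm, Category.assoc, Category.assoc, hp₁]
    exact congrArg (m ≫ ·) (MorphismProperty.Over.w g).symm)
  obtain ⟨a, b, hab⟩ := exists_sub_of_subsingleton U₁ U₂ hsup G hG (F.obj.map k.op t)
  let k₁ : U ⟶ T.obj (objW U₁) := MorphismProperty.Over.homMk i₁.isoOpensRange.hom (by
    show i₁.isoOpensRange.hom ≫ (𝟙 _ ≫ U₁.ι) ≫ p = U.hom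
    rw [Category.id_comp, Scheme.Hom.isoOpensRange_hom_ι_assoc, hp₁])
  let k₂ : U ⟶ T.obj (objW U₂) := MorphismProperty.Over.homMk i₂.isoOpensRange.hom (by
    show i₂.isoOpensRange.hom ≫ (𝟙 _ ≫ U₂.ι) ≫ p = U.hom
    rw [Category.id_comp, Scheme.Hom.isoOpensRange_hom_ι_assoc, hp₂])
  have hj : Set.range (g.left ≫ i₁).base ⊆ Set.range (U₁ ⊓ U₂).ι.base := by
    rw [Scheme.Opens.range_ι]
    rintro _ ⟨v, rfl⟩
    exact ⟨⟨g.left.base v, rfl⟩, ⟨g.left.base v, (congrArg (fun m => m.base v) hgi).symm⟩⟩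
  let j : V ⟶ T.obj (objW (U₁ ⊓ U₂)) :=
    MorphismProperty.Over.homMk (IsOpenImmersion.lift (U₁ ⊓ U₂).ι (g.left ≫ i₁) hj) (by
      show IsOpenImmersion.lift (U₁ ⊓ U₂).ι (g.left ≫ i₁) hj ≫ (𝟙 _ ≫ (U₁ ⊓ U₂).ι) ≫ p = V.hom
      rw [Category.id_comp, IsOpenImmersion.lift_fac_assoc, Category.assoc, hp₁]
      exact MorphismProperty.Over.w g)
  have hjk : j ≫ k = 𝟙 V := by
    apply MorphismProperty.Over.Hom.ext
    show IsOpenImmersion.lift (U₁ ⊓ U₂).ι (g.left ≫ i₁) hj ≫ m = 𝟙 V.left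
    rw [← cancel_mono (g.left ≫ i₁), Category.assoc, hm, IsOpenImmersion.lift_fac, Category.id_comp]
  have h₁ : j ≫ T.map (homW (inf_le_left : U₁ ⊓ U₂ ≤ U₁)) = g ≫ k₁ := by
    apply MorphismProperty.Over.Hom.ext
    show IsOpenImmersion.lift (U₁ ⊓ U₂).ι (g.left ≫ i₁) hj ≫ D.homOfLE (inf_le_left : U₁ ⊓ U₂ ≤ U₁) = g.left ≫ i₁.isoOpensRange.hom
    rw [← cancel_mono U₁.ι, Category.assoc, Category.assoc, Scheme.homOfLE_ι,
      IsOpenImmersion.lift_fac, Scheme.Hom.isoOpensRange_hom_ι]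
  have h₂ : j ≫ T.map (homW (inf_le_right : U₁ ⊓ U₂ ≤ U₂)) = g ≫ k₂ := by
    apply MorphismProperty.Over.Hom.ext
    show IsOpenImmersion.lift (U₁ ⊓ U₂).ι (g.left ≫ i₁) hj ≫ D.homOfLE (inf_le_right : U₁ ⊓ U₂ ≤ U₂) = g.left ≫ i₂.isoOpensRange.hom
    rw [← cancel_mono U₂.ι, Category.assoc, Category.assoc, Scheme.homOfLE_ι,
      IsOpenImmersion.lift_fac, Scheme.Hom.isoOpensRange_hom_ι, hgi]
  refine ⟨F.obj.map k₁.op a - F.obj.map k₂.op b, ?_⟩
  have := congrArg (fun s => F.obj.map j.op s) hab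
  change F.obj.map j.op (F.obj.map (T.map (homW (inf_le_left : U₁ ⊓ U₂ ≤ U₁))).op a -
    F.obj.map (T.map (homW (inf_le_right : U₁ ⊓ U₂ ≤ U₂))).op b) = F.obj.map j.op (F.obj.map k.op t) at this
  rw [map_sub, ← Functor.map_comp_apply, ← Functor.map_comp_apply, ← Functor.map_comp_apply,
    ← op_comp, ← op_comp, ← op_comp, h₁, h₂, hjk, op_id, CategoryTheory.Functor.map_id,
    ConcreteCategory.id_apply, op_comp, op_comp, Functor.map_comp_apply, Functor.map_comp_apply,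
    ← map_sub] at this
  exact this

end GrothLib.EtDer
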