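import Groth.Agent.Lib.EtSite.Sections
import Groth.Prelude.Def_EtBaseX
import Mathlib.RingTheory.Etale.StandardEtale
import Mathlib.AlgebraicGeometry.Morphisms.Etale

/-!
# Etale local rings are strictly henselian
-/

set_option autoImplicit false
set_option backward.isDefEq.respectTransparency false
universe u

open CategoryTheory CategoryTheory.Limits AlgebraicGeometry Opposite Polynomial

noncomputable section

namespace GrothLib.EtDer.EtLocal

variable {X : Scheme.{u}} {Ω : Type u} [Field Ω] [IsSepClosed Ω] (ξ : Spec (CommRingCat.of Ω) ⟶ X)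

/-- The etale local ring. -/
local notation "A" => EtBase.etaleLocalRing ξ

/-- The germ of a function. -/
def grm (U : X.Etale) (t : (Scheme.pointSmallEtale ξ).fiber.obj U) : Γ(U.left, ⊤) →+* A :=
  ((Scheme.pointSmallEtale ξ).toPresheafFiber U t (EtBase.OO X)).hom

theorem grm_map {U V : X.Etale} (g : V ⟶ U) (t : (Scheme.pointSmallEtale ξ).fiber.obj V) :
    (grm ξ V t).comp g.left.appTop.hom = grm ξ U ((Scheme.pointSmallEtale ξ).fiber.map g t) :=
  congrArg CommRingCat.Hom.hom ((Scheme.pointSmallEtale ξ).toPresheafFiber_w g t (EtBase.OO X))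

/-- Evaluation of functions on a neighbourhood at the geometric point. -/
def evU (U : X.Etale) (t : (Scheme.pointSmallEtale ξ).fiber.obj U) :
    (EtBase.OO X).obj (op U) ⟶ CommRingCat.of Ω :=
  t.left.appTop ≫ (Scheme.ΓSpecIso (CommRingCat.of Ω)).hom

/-- Evaluation at the geometric point. -/
def ev : A ⟶ CommRingCat.of Ω :=
  (Scheme.pointSmallEtale ξ).presheafFiberDesc (fun U t => evU ξ U t) (fun U V g t => by
    show g.left.appTop ≫ _ = (t.left ≫ g.left).appTop ≫ _
    rw [Scheme.Hom.comp_appTop, Category.assoc]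
    rfl)

theorem ev_grm (U : X.Etale) (t : (Scheme.pointSmallEtale ξ).fiber.obj U) (s : Γ(U.left, ⊤)) :
    (ev ξ).hom (grm ξ U t s) = (evU ξ U t).hom s :=
  ConcreteCategory.congr_hom
    ((Scheme.pointSmallEtale ξ).toPresheafFiber_presheafFiberDesc (fun U t => evU ξ U t)
      (fun U V g t => by
        show g.left.appTop ≫ _ = (t.left ≫ g.left).appTop ≫ _
        rw [Scheme.Hom.comp_appTop, Category.assoc]
        rfl) U t) s

theorem exists_grm (a : A) : ∃ U t s, grm ξ U t s = a :=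
  (Scheme.pointSmallEtale ξ).toPresheafFiber_jointly_surjective a

/-- Evaluation detects units. -/
theorem isUnit_of_ev_ne_zero (a : A) (h : (ev ξ).hom a ≠ 0) : IsUnit a := by
  obtain ⟨U, t, s, rfl⟩ := exists_grm ξ a
  rw [ev_grm] at h
  let tl : Spec (CommRingCat.of Ω) ⟶ U.left := t.left
  let p := tl.base (default : Spec (CommRingCat.of Ω))
  have hu : IsUnit (tl.appTop.hom s) := by
    have := (isUnit_iff_ne_zero.2 h).map (Scheme.ΓSpecIso (CommRingCat.of Ω)).inv.hom
    have e := ConcreteCategory.congr_hom (Scheme.ΓSpecIso (CommRingCat.of Ω)).hom_inv_id (tl.appTop.hom s)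
    exact e ▸ this
  have hp : p ∈ U.left.basicOpen s := by
    have h1 : tl ⁻¹ᵁ U.left.basicOpen s = ⊤ :=
      (Scheme.preimage_basicOpen_top tl s).trans (Scheme.basicOpen_of_isUnit _ hu)
    exact h1.ge (trivial : (default : Spec (CommRingCat.of Ω)) ∈ (⊤ : (Spec (CommRingCat.of Ω)).Opens))
  haveI : Etale U.hom := U.prop
  let O : U.left.Opens := U.left.basicOpen s
  let l := IsOpenImmersion.lift O.ι tl (by
    rw [Scheme.Opens.range_ι]
    rintro _ ⟨x, rfl⟩
    rwa [Subsingleton.elim x default])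
  let V : X.Etale := Scheme.Etale.mk (O.ι ≫ U.hom)
  let g : V ⟶ U := MorphismProperty.Over.homMk O.ι rfl
  let t' : (Scheme.pointSmallEtale ξ).fiber.obj V := GrothLib.EtSite.fib ξ l (by
    show l ≫ O.ι ≫ U.hom = ξ
    rw [IsOpenImmersion.lift_fac_assoc]
    exact Over.w t)
  have ht : (Scheme.pointSmallEtale ξ).fiber.map g t' = t :=
    Over.OverMorphism.ext (IsOpenImmersion.lift_fac O.ι tl _)
  rw [← ht, ← grm_map ξ g t']
  refine IsUnit.map (grm ξ V t') (x := O.ι.appTop.hom s) ?_
  have h2 : O.toScheme.basicOpen (O.ι.appTop.hom s) = ⊤ := by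
    rw [← Scheme.preimage_basicOpen_top]
    exact Scheme.Opens.ι_preimage_self O
  refine O.toScheme.toRingedSpace.isUnit_of_isUnit_germ ⊤ _ fun x hx => ?_
  exact (Scheme.mem_basicOpen _ _ x hx).1 (h2.ge hx)

instance isLocalRing : IsLocalRing A := by
  haveI : Nontrivial A := RingHom.domain_nontrivial (ev ξ).hom
  refine IsLocalRing.of_isUnit_or_isUnit_one_sub_self fun a => ?_
  by_cases h : (ev ξ).hom a = 0
  · refine Or.inr (isUnit_of_ev_ne_zero ξ _ ?_)
    rw [map_sub, map_one, h, sub_zero]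
    exact one_ne_zero
  · exact Or.inl (isUnit_of_ev_ne_zero ξ a h)

theorem mem_maximalIdeal_iff (a : A) : a ∈ IsLocalRing.maximalIdeal A ↔ (ev ξ).hom a = 0 := by
  refine ⟨fun h => ?_, fun h hu => (hu.map (ev ξ).hom).ne_zero h⟩
  by_contra h0
  exact h (isUnit_of_ev_ne_zero ξ a h0)

theorem exists_common (U U' : X.Etale) (t : (Scheme.pointSmallEtale ξ).fiber.obj U)
    (t' : (Scheme.pointSmallEtale ξ).fiber.obj U') :
    ∃ (V : X.Etale) (v : (Scheme.pointSmallEtale ξ).fiber.obj V) (g : V ⟶ U) (g' : V ⟶ U'),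
      (Scheme.pointSmallEtale ξ).fiber.map g v = t ∧ (Scheme.pointSmallEtale ξ).fiber.map g' v = t' := by
  let a : (Scheme.pointSmallEtale ξ).fiber.Elements := ⟨U, t⟩
  let b : (Scheme.pointSmallEtale ξ).fiber.Elements := ⟨U', t'⟩
  exact ⟨(IsCofiltered.min a b).1, (IsCofiltered.min a b).2, (IsCofiltered.minToLeft a b).1,
    (IsCofiltered.minToRight a b).1, (IsCofiltered.minToLeft a b).2, (IsCofiltered.minToRight a b).2⟩

theorem exists_poly (f : (A)[X]) : ∃ U t, f ∈ Polynomial.lifts (grm ξ U t) := by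
  induction f using Polynomial.induction_on' with
  | add p q hp hq =>
    obtain ⟨U, t, P, hP⟩ := hp
    obtain ⟨U', t', Q, hQ⟩ := hq
    obtain ⟨V, v, g, g', hg, hg'⟩ := exists_common ξ U U' t t'
    refine ⟨V, v, P.map g.left.appTop.hom + Q.map g'.left.appTop.hom, ?_⟩
    rw [map_add, Polynomial.coe_mapRingHom, Polynomial.map_map, Polynomial.map_map, grm_map, grm_map,
      hg, hg', ← Polynomial.coe_mapRingHom, ← Polynomial.coe_mapRingHom, hP, hQ]
  | monomial n a =>
    obtain ⟨U, t, s, rfl⟩ := exists_grm ξ a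
    exact ⟨U, t, monomial n s, Polynomial.map_monomial (grm ξ U t)⟩

/-- A simple root of the reduction of a monic polynomial lifts. -/
theorem exists_root (f : (A)[X]) (hf : f.Monic) (ω : Ω) (h0 : (f.map (ev ξ).hom).eval ω = 0)
    (h1 : (f.map (ev ξ).hom).derivative.eval ω ≠ 0) : ∃ a, f.IsRoot a ∧ (ev ξ).hom a = ω := by
  obtain ⟨U, t, hP⟩ := exists_poly ξ f
  obtain ⟨P₀, hP₀, -, hP₀m⟩ := Polynomial.lifts_and_degree_eq_and_monic hP hf
  obtain ⟨B, j, hj, t', ht'⟩ := GrothLib.EtSite.exists_affine_fac t.left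
  haveI := hj
  haveI : Etale U.hom := U.prop
  let U' : X.Etale := Scheme.Etale.mk (j ≫ U.hom)
  let g : U' ⟶ U := MorphismProperty.Over.homMk j rfl
  let τ : (Scheme.pointSmallEtale ξ).fiber.obj U' := GrothLib.EtSite.fib ξ t' (by
    show t' ≫ j ≫ U.hom = ξ
    rw [← Category.assoc, ht']
    exact Over.w t)
  have hτ : (Scheme.pointSmallEtale ξ).fiber.map g τ = t := Over.OverMorphism.ext ht'
  obtain ⟨β, hβ⟩ := Spec.map_surjective t'
  let ψB : B →+* A := (grm ξ U' τ).comp (Scheme.ΓSpecIso B).inv.hom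
  let P : B[X] := P₀.map ((Scheme.ΓSpecIso B).hom.hom.comp j.appTop.hom)
  have hfP : P.map ψB = f := by
    rw [← hP₀, Polynomial.map_map, ← hτ, ← grm_map ξ g τ]
    refine congrArg (fun k => P₀.map k) (RingHom.ext fun r => ?_)
    exact congrArg (grm ξ U' τ) (ConcreteCategory.congr_hom (Scheme.ΓSpecIso B).hom_inv_id (j.appTop.hom r))
  have hψB : (ev ξ).hom.comp ψB = β.hom := by
    refine RingHom.ext fun r => (ev_grm ξ U' τ _).trans ?_
    show (t'.appTop ≫ (Scheme.ΓSpecIso (CommRingCat.of Ω)).hom).hom ((Scheme.ΓSpecIso B).inv.hom r) = _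
    rw [← hβ, Scheme.ΓSpecIso_naturality]
    exact congrArg β.hom (ConcreteCategory.congr_hom (Scheme.ΓSpecIso B).inv_hom_id r)
  let S : StandardEtalePair B :=
    ⟨P, hP₀m.map _, P.derivative, 1, 0, 1, by rw [mul_one, mul_zero, add_zero, pow_one]⟩
  letI : Algebra B Ω := β.hom.toAlgebra
  have hPω : P.map β.hom = f.map (ev ξ).hom := by
    rw [← hfP]
    exact ((Polynomial.map_map _ _ _).trans (congrArg (fun k => P.map k) hψB)).symm
  have hm : S.HasMap ω := by
    refine ⟨?_, isUnit_iff_ne_zero.2 ?_⟩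
    · rw [aeval_def, ← eval_map]
      show (P.map β.hom).eval ω = 0
      rw [hPω]; exact h0
    · rw [aeval_def, ← eval_map]
      show (P.derivative.map β.hom).eval ω ≠ 0
      rw [← derivative_map, hPω]; exact h1
  let α : B ⟶ CommRingCat.of S.Ring := CommRingCat.ofHom (algebraMap B S.Ring)
  haveI : Etale (Spec.map α) := by
    rw [HasRingHomProperty.Spec_iff (P := @Etale)]
    exact RingHom.etale_algebraMap.2 (inferInstanceAs (Algebra.Etale B S.Ring))
  let V : X.Etale := Scheme.Etale.mk (Spec.map α ≫ U'.hom)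
  let q : V ⟶ U' := MorphismProperty.Over.homMk (Spec.map α) rfl
  let φ : CommRingCat.of S.Ring ⟶ CommRingCat.of Ω := CommRingCat.ofHom (S.lift ω hm).toRingHom
  have hαφ : α ≫ φ = β := CommRingCat.hom_ext (RingHom.ext fun r => (S.lift ω hm).commutes r)
  let v : (Scheme.pointSmallEtale ξ).fiber.obj V := GrothLib.EtSite.fib ξ (Spec.map φ) (by
    show Spec.map φ ≫ Spec.map α ≫ j ≫ U.hom = ξ
    rw [← Spec.map_comp_assoc, hαφ, hβ, ← Category.assoc, ht']
    exact Over.w t)
  have hv : (Scheme.pointSmallEtale ξ).fiber.map q v = τ := by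
    refine Over.OverMorphism.ext ?_
    show Spec.map φ ≫ Spec.map α = t'
    rw [← Spec.map_comp, hαφ, hβ]
  let ψV : S.Ring →+* A := (grm ξ V v).comp (Scheme.ΓSpecIso (CommRingCat.of S.Ring)).inv.hom
  have hψ : ψV.comp (algebraMap B S.Ring) = ψB := by
    refine RingHom.ext fun r => ?_
    show grm ξ V v ((α ≫ (Scheme.ΓSpecIso (CommRingCat.of S.Ring)).inv).hom r) = _
    rw [Scheme.ΓSpecIso_inv_naturality]
    show grm ξ V v (q.left.appTop.hom ((Scheme.ΓSpecIso B).inv.hom r)) = _
    exact (RingHom.congr_fun (grm_map ξ q v) _).trans (by rw [hv]; rfl)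
  refine ⟨ψV S.X, ?_, ?_⟩
  · show f.eval (ψV S.X) = 0
    rw [← hfP, eval_map, ← hψ, ← hom_eval₂, ← aeval_def, S.hasMap_X.1, map_zero]
  · refine (ev_grm ξ V v _).trans ?_
    show ((Spec.map φ).appTop ≫ (Scheme.ΓSpecIso (CommRingCat.of Ω)).hom).hom
      ((Scheme.ΓSpecIso (CommRingCat.of S.Ring)).inv.hom S.X) = ω
    rw [Scheme.ΓSpecIso_naturality]
    refine Eq.trans (congrArg φ.hom
      (ConcreteCategory.congr_hom (Scheme.ΓSpecIso (CommRingCat.of S.Ring)).inv_hom_id S.X)) ?_
    exact S.lift_X ω hm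

/-- Etale local rings are strictly henselian. -/
theorem isStrictlyHenselian : EtCoh.IsStrictlyHenselianLocalRing A := by
  haveI hH : HenselianLocalRing A :=
    { is_henselian := fun f hf a₀ h0 h1 => by
        obtain ⟨a, ha, he⟩ := exists_root ξ f hf ((ev ξ).hom a₀)
          (by rw [eval_map_apply]; exact (mem_maximalIdeal_iff ξ _).1 h0)
          (by rw [derivative_map, eval_map_apply]; exact (h1.map (ev ξ).hom).ne_zero)
        exact ⟨a, ha, (mem_maximalIdeal_iff ξ _).2 (by rw [map_sub, he, sub_self])⟩ }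
  refine ⟨hH, IsSepClosed.of_exists_root _ fun p hpm hpi hps => ?_⟩
  let ι : IsLocalRing.ResidueField A →+* Ω :=
    Ideal.Quotient.lift _ (ev ξ).hom fun a ha => (mem_maximalIdeal_iff ξ a).1 ha
  have hι : ι.comp (IsLocalRing.residue A) = (ev ξ).hom := RingHom.ext fun a => rfl
  obtain ⟨P, hP, -, hPm⟩ := Polynomial.lifts_and_degree_eq_and_monic
    (show p ∈ Polynomial.lifts (IsLocalRing.residue A) from
      Polynomial.map_surjective _ IsLocalRing.residue_surjective p) hpm
  obtain ⟨ω, hω⟩ := IsSepClosed.exists_eval₂_eq_zero ι p hpi.degree_pos.ne' hps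
  have hPω : P.map (ev ξ).hom = p.map ι := by rw [← hP, Polynomial.map_map, hι]
  obtain ⟨a, ha, he⟩ := exists_root ξ P hPm ω (by rw [hPω, eval_map]; exact hω) (by
    rw [hPω, derivative_map, eval_map]
    exact hps.eval₂_derivative_ne_zero ι hω)
  refine ⟨IsLocalRing.residue A a, ?_⟩
  rw [← hP, eval_map_apply]
  show IsLocalRing.residue A (P.eval a) = 0
  rw [show P.eval a = 0 from ha, map_zero]

end GrothLib.EtDer.EtLocal
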