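import Groth.Agent.Lib.EtDer.MV

/-!
# The sheaves `j_! ℤ` of open subschemes: maps, elements, Mayer-Vietoris
-/

set_option autoImplicit false
set_option backward.isDefEq.respectTransparency false
universe u

open CategoryTheory CategoryTheory.Limits CategoryTheory.Abelian AlgebraicGeometry Opposite

noncomputable section

namespace GrothLib.EtDer.MV

variable {X : Scheme.{u}}

instance mono_aW (W : X.Opens) : Mono (aW W) :=
  GrothLib.EtSite.mono_of_stalks _ fun Ω _ _ ξ => by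
    by_cases h : ξ.base default ∈ W
    · exact (bijective_stalk_aW ξ W h).1
    · exact fun a b _ => @Subsingleton.elim _ (subsingleton_stalk_AW ξ W h) a b

theorem isIso_aW_top : IsIso (aW (⊤ : X.Opens)) :=
  GrothLib.EtSite.isIso_of_stalks _ fun Ω _ _ ξ => bijective_stalk_aW ξ ⊤ trivial

@[reassoc]
theorem bW_bW {W U T : X.Opens} (h : W ≤ U) (h' : U ≤ T) : bW h ≫ bW h' = bW (h.trans h') := by
  rw [← cancel_mono (aW T), Category.assoc, bW_aW, bW_aW, bW_aW]

theorem isZero_AW_bot : IsZero (AW (⊥ : X.Opens)) :=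
  GrothLib.EtSite.isZero_of_stalks _ fun Ω _ _ ξ =>
    @AddCommGrpCat.isZero_of_subsingleton _ (subsingleton_stalk_AW ξ ⊥ id)

section seq

variable (U V T : X.Opens) (hU : U ≤ T) (hV : V ≤ T)

/-- `0 → ℤ_{U∩V} → ℤ_U ⊕ ℤ_V → ℤ_T → 0`. -/
def mvSeqT : ShortComplex (EtCoh.Ab X) :=
  ShortComplex.mk (mvSeq U V).f (biprod.desc (bW hU) (bW hV))
    (by
      rw [← cancel_mono (aW T), Category.assoc, zero_comp]
      refine Eq.trans ?_ (mvSeq U V).zero
      refine congrArg _ (biprod.hom_ext' _ _ ?_ ?_)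
      · rw [biprod.inl_desc_assoc, bW_aW]; exact (biprod.inl_desc _ _).symm
      · rw [biprod.inr_desc_assoc, bW_aW]; exact (biprod.inr_desc _ _).symm)

theorem shortExact_mvSeqT (hT : U ⊔ V = T) : (mvSeqT U V T hU hV).ShortExact := by
  have key := stalk_mvSeq U V
  have hg : (mvSeqT U V T hU hV).g ≫ aW T = (mvSeq U V).g := by
    refine biprod.hom_ext' _ _ ?_ ?_
    · show biprod.inl ≫ biprod.desc _ _ ≫ aW T = _
      rw [biprod.inl_desc_assoc, bW_aW]; exact (biprod.inl_desc _ _).symm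
    · show biprod.inr ≫ biprod.desc _ _ ≫ aW T = _
      rw [biprod.inr_desc_assoc, bW_aW]; exact (biprod.inr_desc _ _).symm
  refine { exact := ?_, mono_f := GrothLib.EtSite.mono_of_stalks _ fun Ω _ _ ξ => (key Ω ξ).1,
           epi_g := GrothLib.EtSite.epi_of_stalks _ fun Ω _ _ ξ z => ?_ }
  · let φ : mvSeqT U V T hU hV ⟶ mvSeq U V :=
      { τ₁ := 𝟙 _, τ₂ := 𝟙 _, τ₃ := aW T
        comm₁₂ := (Category.id_comp _).trans (Category.comp_id _).symm
        comm₂₃ := (Category.id_comp _).trans hg.symm }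
    haveI : Epi φ.τ₁ := inferInstanceAs (Epi (𝟙 _))
    haveI : IsIso φ.τ₂ := inferInstanceAs (IsIso (𝟙 _))
    haveI : Mono φ.τ₃ := mono_aW T
    exact (ShortComplex.exact_iff_of_epi_of_isIso_of_mono φ).2
      (GrothLib.EtSite.shortComplex_exact_of_stalks _ fun Ω _ _ ξ => (key Ω ξ).2.2)
  · by_cases h : ξ.base default ∈ T
    · obtain ⟨t, ht⟩ := (key Ω ξ).2.1 (hT.ge h) ((EtCoh.stalk ξ).map (aW T) z)
      refine ⟨t, (bijective_stalk_aW ξ T h).1 ?_⟩
      refine Eq.trans ?_ ht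
      rw [← hg, Functor.map_comp]
      rfl
    · exact ⟨0, @Subsingleton.elim _ (subsingleton_stalk_AW ξ T h) _ _⟩

/-- A class killed on both members of a covering comes from the intersection. -/
theorem eq_zero_of_bW (hT : U ⊔ V = T) (F : EtCoh.Ab X) (n : ℕ) (x : Ext.{u + 1} (AW T) F (n + 1))
    (hW : Subsingleton (Ext.{u + 1} (AW (U ⊓ V)) F n))
    (h₁ : (Ext.mk₀ (bW hU)).comp x (zero_add _) = 0)
    (h₂ : (Ext.mk₀ (bW hV)).comp x (zero_add _) = 0) : x = 0 := by
  have hS := shortExact_mvSeqT U V T hU hV hT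
  have e : biprod.desc (bW hU) (bW hV) = biprod.fst ≫ bW hU + biprod.snd ≫ bW hV := by
    apply biprod.hom_ext' <;> simp
  have : (Ext.mk₀ (mvSeqT U V T hU hV).g).comp x (zero_add _) = 0 := by
    show (Ext.mk₀ (biprod.desc (bW hU) (bW hV))).comp x (zero_add _) = 0
    rw [e, Ext.mk₀_add, Ext.add_comp, ← Ext.mk₀_comp_mk₀_assoc, ← Ext.mk₀_comp_mk₀_assoc, h₁, h₂,
      Ext.comp_zero, Ext.comp_zero, add_zero]
  obtain ⟨w, rfl⟩ := Ext.contravariant_sequence_exact₃ hS F x this (add_comm 1 n)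
  rw [@Subsingleton.elim _ hW w 0]
  exact Ext.comp_zero _ _ _ _ _

end seq

section elt

/-- The open subscheme as an object of the etale site. -/
abbrev objW (W : X.Opens) : X.Etale := (EtShriek.compEtale W.ι).obj (EtCoh.top W.toScheme)

/-- The inclusion of objects attached to an inclusion of opens. -/
def homW {W U : X.Opens} (h : W ≤ U) : objW W ⟶ objW U :=
  MorphismProperty.Over.homMk (X.homOfLE h)
    ((congrArg (X.homOfLE h ≫ ·) (Category.id_comp U.ι)).trans ((X.homOfLE_ι h).trans (Category.id_comp W.ι).symm))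

/-- The element attached to a map out of `j_! ℤ`. -/
def elt (W : X.Opens) (G : EtCoh.Ab X) : (AW W ⟶ G) ≃
    (AddCommGrpCat.of (ULift.{u + 1} ℤ) ⟶ G.obj.obj (op (objW W))) :=
  ((EtShriek.extZeroAdj W.ι).homEquiv _ G).trans ((EtCore.constAdj W.toScheme).homEquiv _ _)

theorem elt_comp (W : X.Opens) {G G' : EtCoh.Ab X} (φ : AW W ⟶ G) (g : G ⟶ G') :
    elt W G' (φ ≫ g) = elt W G φ ≫ g.hom.app (op (objW W)) := by
  show (EtCore.constAdj W.toScheme).homEquiv _ _ ((EtShriek.extZeroAdj W.ι).homEquiv _ G' (φ ≫ g)) = _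
  rw [Adjunction.homEquiv_naturality_right, Adjunction.homEquiv_naturality_right]
  rfl

theorem elt_aW (W : X.Opens) : elt W _ (aW W) =
    (EtCore.constAdj X).unit.app (AddCommGrpCat.of (ULift.{u + 1} ℤ)) ≫
      (EtCoh.const X ℤ).obj.map ((EtCore.topIsTerminal X).from (objW W)).op := by
  let M : AddCommGrpCat.{u + 1} := AddCommGrpCat.of (ULift.{u + 1} ℤ)
  have h : (EtShriek.extZeroAdj W.ι).homEquiv _ _ (aW W) = (EtCore.pullConst W.ι ℤ).inv ≫
      (GrothLib.ExtZero.restrIsoPull W.ι).inv.app _ := by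
    rw [aW, adj, Adjunction.homEquiv_ofNatIsoRight_symm_apply]
    exact Equiv.apply_symm_apply _ _
  show (EtCore.constAdj W.toScheme).homEquiv _ _ ((EtShriek.extZeroAdj W.ι).homEquiv _ _ (aW W)) = _
  rw [h, Adjunction.homEquiv_unit, Functor.map_comp]
  refine ((reassoc_of% (unit_pullConst W.ι M)) _).trans ?_
  have n1 := (EtCore.pushGsecIso W.ι).hom.naturality
    ((GrothLib.ExtZero.restrIsoPull W.ι).inv.app (EtCoh.const X ℤ))
  simp only [Functor.comp_map] at n1
  refine (congrArg (fun a => (EtCore.constAdj X).unit.app M ≫ (EtCore.gsec X).map _ ≫ a) n1.symm).trans ?_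
  have hu : (EtCoh.pullPushAdj W.ι).unit.app (EtCoh.const X ℤ) ≫
      (EtCoh.push W.ι).map ((GrothLib.ExtZero.restrIsoPull W.ι).inv.app (EtCoh.const X ℤ)) =
      (GrothLib.ExtZero.restrPushAdj W.ι).unit.app (EtCoh.const X ℤ) := by
    rw [GrothLib.ExtZero.restrIsoPull, Adjunction.leftAdjointUniq_inv_app]
    exact Adjunction.unit_leftAdjointUniq_hom_app _ _ _
  refine congrArg ((EtCore.constAdj X).unit.app M ≫ ·) ?_
  rw [← Functor.map_comp_assoc]
  refine (congrArg (fun a => (EtCore.gsec X).map a ≫ _) hu).trans ?_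
  refine ((EtCoh.const X ℤ).obj.map_comp _ _).symm.trans ?_
  exact congrArg (EtCoh.const X ℤ).obj.map (Quiver.Hom.unop_inj ((EtCore.topIsTerminal X).hom_ext _ _))

theorem sections_mono {G G' : EtCoh.Ab X} (g : G ⟶ G') [Mono g] (Z : X.Etale) : Mono (g.hom.app (op Z)) := by
  haveI : Mono g.hom := inferInstanceAs (Mono ((sheafToPresheaf _ _).map g))
  infer_instance

theorem elt_bW_comp {W U : X.Opens} (h : W ≤ U) {G : EtCoh.Ab X} (φ : AW U ⟶ G) :
    elt W G (bW h ≫ φ) = elt U G φ ≫ G.obj.map (homW h).op := by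
  have hb : elt W _ (bW h) = elt U _ (𝟙 (AW U)) ≫ (AW U).obj.map (homW h).op := by
    haveI := sections_mono (aW U) (objW W)
    rw [← cancel_mono ((aW U).hom.app (op (objW W))), ← elt_comp, bW_aW, Category.assoc,
      (aW U).hom.naturality, ← Category.assoc, ← elt_comp, Category.id_comp, elt_aW, elt_aW,
      Category.assoc, ← Functor.map_comp, ← op_comp]
    exact congrArg (fun k => _ ≫ (EtCoh.const X ℤ).obj.map k)
      (congrArg Quiver.Hom.op ((EtCore.topIsTerminal X).hom_ext _ _))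
  have e : elt U G φ = elt U _ (𝟙 (AW U)) ≫ φ.hom.app (op (objW U)) := by
    rw [← elt_comp, Category.id_comp]
  rw [elt_comp, hb, e, Category.assoc, Category.assoc, φ.hom.naturality]

end elt

end GrothLib.EtDer.MV
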