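import Groth.Agent.Lib.EtSite.PushExact
import Groth.Agent.Lib.EtDer.Injective
import Groth.Agent.Lib.SheafCoh.AcyclicRes
import Groth.Agent.Lib.ProEtS.GeomPoint
import Groth.Prelude.Def_EtCore
import Groth.Agent.Lib.EtBasicB.OverField
import Mathlib.AlgebraicGeometry.Morphisms.FlatMono
import Mathlib.AlgebraicGeometry.Artinian
import Mathlib.AlgebraicGeometry.Morphisms.QuasiFinite

/-!
# Direct images from separably closed points
-/

set_option autoImplicit false
set_option backward.isDefEq.respectTransparency false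
universe u

open CategoryTheory CategoryTheory.Limits AlgebraicGeometry Opposite

noncomputable section

namespace GrothLib.EtDer

variable {K : Type u} [Field K] [IsSepClosed K]

/-- Condition (B) holds for morphisms out of a separably closed point. -/
theorem propB_of_sepClosed {Y : Scheme.{u}} (f : Spec (CommRingCat.of K) ⟶ Y) : BigSite.PropB f := by
  intro V v _ ι U g hg hsurj
  refine ⟨PUnit.{u + 1}, fun _ => V, fun _ => 𝟙 V, fun _ => inferInstance, fun y => ⟨PUnit.unit, y, rfl⟩,
    fun _ => ?_⟩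
  let P := pullback f (𝟙 V ≫ v)
  let p : P ⟶ Spec (CommRingCat.of K) := pullback.fst _ _
  haveI : Etale p := MorphismProperty.pullback_fst _ _ (by rw [Category.id_comp]; infer_instance)
  haveI : IsLocallyArtinian (Spec (CommRingCat.of K)) :=
    Scheme.isLocallyArtinianScheme_Spec.2 (inferInstanceAs (IsArtinianRing K))
  haveI : LocallyQuasiFinite p := GrothLib.EtBasicB.locallyQuasiFinite_of_unramified p
  haveI : IsLocallyArtinian P := IsLocallyArtinian.of_locallyQuasiFinite p
  let m : P ⟶ pullback f v := pullback.map f (𝟙 V ≫ v) f v (𝟙 _) (𝟙 V) (𝟙 Y) (by simp) (by simp)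
  refine ⟨P, fun a => ⟨{a}, isOpen_discrete _⟩,
    fun a b hab => ?_, ?_, fun a => ?_⟩
  · rw [disjoint_iff_inf_le]
    rintro x ⟨hxa : x = a, hxb : x = b⟩
    exact hab (hxa.symm.trans hxb)
  · exact eq_top_iff.2 fun x _ => TopologicalSpace.Opens.mem_iSup.2 ⟨x, rfl⟩
  · obtain ⟨i, z, hz⟩ := hsurj (m.base a)
    let W : P.Opens := ⟨{a}, isOpen_discrete _⟩
    let a' : W.toScheme := ⟨a, rfl⟩
    haveI : Subsingleton W.toScheme := ⟨fun x y => Subtype.ext (x.2.trans y.2.symm)⟩
    obtain ⟨w, -, -⟩ := Scheme.Pullback.exists_preimage_pullback (f := g i) (g := W.ι ≫ m) z a' hz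
    haveI : Etale (g i) := hg i
    haveI : Etale (pullback.snd (g i) (W.ι ≫ m)) := MorphismProperty.pullback_snd _ _ inferInstance
    haveI : Etale (W.ι ≫ p) := inferInstance
    obtain ⟨s, hs⟩ := GrothLib.ProEtS.exists_section_of_isSepClosed
      (pullback.snd (g i) (W.ι ≫ m) ≫ W.ι ≫ p) w
    obtain ⟨t, ht⟩ := GrothLib.ProEtS.exists_section_of_isSepClosed (W.ι ≫ p) a'
    haveI : IsOpenImmersion t :=
      haveI : Etale (t ≫ W.ι ≫ p) := ht ▸ inferInstance
      haveI : Etale t := Etale.of_comp t (W.ι ≫ p)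
      haveI : Mono t := (SplitMono.mk (W.ι ≫ p) ht).mono
      IsOpenImmersion.of_flat_of_mono t
    haveI : Surjective t := ⟨fun x => ⟨IsLocalRing.closedPoint _, Subsingleton.elim _ _⟩⟩
    haveI : IsIso t :=
      haveI : Epi t.base := (TopCat.epi_iff_surjective _).2 t.surjective
      IsOpenImmersion.isIso t
    refine ⟨i, (W.ι ≫ p) ≫ s ≫ pullback.fst (g i) (W.ι ≫ m), ?_⟩
    have e : s ≫ pullback.snd (g i) (W.ι ≫ m) = t := by
      have h1 : (s ≫ pullback.snd (g i) (W.ι ≫ m)) ≫ W.ι ≫ p = t ≫ W.ι ≫ p := by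
        rw [Category.assoc, hs, ht]
      haveI : IsIso (W.ι ≫ p) := by
        rw [← IsIso.inv_eq_of_hom_inv_id ht]; infer_instance
      exact (cancel_mono _).1 h1
    have e' : (W.ι ≫ p) ≫ t = 𝟙 _ := by
      rw [← IsIso.inv_eq_of_hom_inv_id ht, IsIso.inv_hom_id]
    show _ = W.ι ≫ m
    rw [Category.assoc (W.ι ≫ p), Category.assoc s, pullback.condition, ← Category.assoc s, e,
      ← Category.assoc, e', Category.id_comp]

/-- Direct image from a separably closed point is exact. -/
theorem preservesHomology_push_sepClosed {Y : Scheme.{u}} (f : Spec (CommRingCat.of K) ⟶ Y) :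
    (EtCoh.push f).PreservesHomology := by
  have := GrothLib.EtSite.push_preservesEpimorphisms f (propB_of_sepClosed f)
  have : (EtCoh.push f).IsRightAdjoint := (EtCoh.pullPushAdj f).isRightAdjoint
  exact Functor.preservesHomology_of_preservesEpis_and_kernels _

/-- The higher direct images of a sheaf pushed forward from a separably closed point vanish. -/
theorem isZero_Rpush_push_sepClosed {X Y : Scheme.{u}} (g : Spec (CommRingCat.of K) ⟶ X) (f : X ⟶ Y)
    (A : EtCoh.Ab (Spec (CommRingCat.of K))) (q : ℕ) (hq : 1 ≤ q) :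
    IsZero ((EtCoh.Rpush f q).obj ((EtCoh.push g).obj A)) := by
  obtain ⟨n, rfl⟩ : ∃ n, q = n + 1 := ⟨q - 1, by omega⟩
  haveI := preservesHomology_push_sepClosed g
  haveI := GrothLib.EtSite.push_preservesEpimorphisms (g ≫ f) (propB_of_sepClosed (g ≫ f))
  haveI : (EtCoh.push g ⋙ EtCoh.push f).PreservesEpimorphisms :=
    Functor.preservesEpimorphisms.of_iso (EtCoh.pushComp f g).symm
  haveI : (EtCoh.push f).IsRightAdjoint := (EtCoh.pullPushAdj f).isRightAdjoint
  haveI : (EtCoh.push g).IsRightAdjoint := (EtCoh.pullPushAdj g).isRightAdjoint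
  haveI : (EtCoh.push g ⋙ EtCoh.push f).PreservesHomology :=
    Functor.preservesHomology_of_preservesEpis_and_kernels _
  let I := InjectiveResolution.of A
  let J := GrothLib.SheafCoh.mapInjectiveResolution (EtCoh.push g) I
    (fun E _ => injective_push g E)
    (fun k => GrothLib.EtSite.isZero_rightDerived_of_exact (EtCoh.push g) (k + 1) k.succ_pos A)
  refine IsZero.of_iso ?_ (J.isoRightDerivedObj (EtCoh.push f) (n + 1))
  refine (HomologicalComplex.exactAt_iff_isZero_homology _ _).1 ?_
  exact (I.cocomplex_exactAt_succ n).map (EtCoh.push g ⋙ EtCoh.push f)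

end GrothLib.EtDer
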