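import Groth.Agent.Lib.Hensel.Henselization
import Groth.Agent.Lib.EtDer.AcyclicComp

/-!
# Morphisms of strict localizations and composition
-/

set_option autoImplicit false
set_option backward.isDefEq.respectTransparency false
universe u

open CategoryTheory CategoryTheory.Limits AlgebraicGeometry Opposite IsLocalRing

namespace GrothLib.EtDer

/-- A map on residue fields compatible with `f` makes it local. -/
theorem isLocalHom_of_residue {S T : Type u} [CommRing S] [IsLocalRing S] [CommRing T] [IsLocalRing T]
    (f : S →+* T) (τ : ResidueField S →+* ResidueField T) (h : ∀ x, residue T (f x) = τ (residue S x)) :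
    IsLocalHom f := ⟨fun x hx => by
  by_contra hu
  have h0 : residue S x = 0 := (residue_eq_zero_iff x).2 hu
  have : residue T (f x) = 0 := by rw [h, h0, map_zero]
  exact (residue_eq_zero_iff (f x)).1 this hx⟩

/-- A separable closure inside a field absorbs every separable extension. -/
theorem exists_factor_sepClosure {k l A B C : Type u} [Field k] [Field l] [Field A] [Field B] [Field C]
    [Algebra k A] [Algebra.IsSeparable k A] [Algebra l B] [IsSepClosed B]
    (φ : k →+* l) (τ : B →+* C) (ψ : A →+* C)
    (h : ψ.comp (algebraMap k A) = (τ.comp (algebraMap l B)).comp φ) :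
    ∃ τ' : A →+* B, τ.comp τ' = ψ ∧ τ'.comp (algebraMap k A) = (algebraMap l B).comp φ := by
  have hmem : ∀ a, ψ a ∈ τ.fieldRange := fun a => by
    let q := (minpoly k a).map ((algebraMap l B).comp φ)
    have hqs : q.Separable := Polynomial.Separable.map (Algebra.IsSeparable.isSeparable k a)
    have hq : q.Splits := IsSepClosed.splits_of_separable q hqs
    have hroot : ψ a ∈ (q.map τ).roots := by
      refine (Polynomial.mem_roots (Polynomial.map_ne_zero hqs.ne_zero)).2 ?_
      show (q.map τ).eval (ψ a) = 0
      rw [Polynomial.map_map, Polynomial.eval_map, ← RingHom.comp_assoc, ← h,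
        ← Polynomial.hom_eval₂, ← Polynomial.aeval_def, minpoly.aeval, map_zero]
    rw [hq.roots_map] at hroot
    obtain ⟨b, -, hb⟩ := Multiset.mem_map.1 hroot
    exact ⟨b, hb⟩
  choose g hg using hmem
  let τ' : A →+* B :=
    { toFun := g
      map_one' := τ.injective (by rw [hg, map_one, map_one])
      map_mul' := fun a b => τ.injective (by rw [hg, map_mul, map_mul, hg, hg])
      map_zero' := τ.injective (by rw [hg, map_zero, map_zero])
      map_add' := fun a b => τ.injective (by rw [hg, map_add, map_add, hg, hg]) }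
  exact ⟨τ', RingHom.ext hg, RingHom.ext fun r => τ.injective ((hg _).trans (RingHom.congr_fun h r))⟩

variable {X Y Z : Scheme.{u}} (g : X ⟶ Y) (h : Y ⟶ Z)
  (P : ∀ ⦃X' Y' : Scheme.{u}⦄, (X' ⟶ Y') → Prop)

/-- Properties on strict localizations satisfying two out of three pass to composites. -/
theorem onStrictLocalizations_comp_iff (hg : Function.Surjective g.base)
    (hP : ∀ ⦃A B C : Scheme.{u}⦄ (a : A ⟶ B) (b : B ⟶ C), P a → (P b ↔ P (a ≫ b)))
    (Hg : EtAcyc.OnStrictLocalizations g P) :
    EtAcyc.OnStrictLocalizations h P ↔ EtAcyc.OnStrictLocalizations (g ≫ h) P := by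
  constructor
  · intro Hh x RZ RX iCZ _ iLZ _ iAZ iHZ hZ _ _ hX _ _ hc
    let OY := Y.presheaf.stalk (g.base x)
    let RY := GrothLib.Hensel.StrictHens OY
    haveI : HenselianLocalRing RX := hX.henselian
    haveI := hX.isSepClosure
    haveI := hZ.isSepClosure
    haveI hRY := GrothLib.Hensel.StrictHens.isStrictHenselization OY
    haveI := hRY.isSepClosure
    haveI : IsSepClosed (ResidueField RX) := IsSepClosure.sep_closed (ResidueField (X.presheaf.stalk x))
    haveI : IsSepClosed (ResidueField RY) := IsSepClosure.sep_closed (ResidueField OY)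
    haveI : Algebra.IsSeparable (ResidueField OY) (ResidueField RY) := IsSepClosure.isSeparable
    haveI : Algebra.IsSeparable (ResidueField (Z.presheaf.stalk ((g ≫ h).base x))) (ResidueField RZ) :=
      IsSepClosure.isSeparable
    let fY : OY →+* RX := (algebraMap (X.presheaf.stalk x) RX).comp (g.stalkMap x).hom
    haveI : IsLocalHom fY := RingHom.isLocalHom_comp _ _
    letI : Algebra (ResidueField OY) (ResidueField RX) := (ResidueField.map fY).toAlgebra
    let τ : ResidueField RY →+* ResidueField RX :=
      (IsSepClosed.lift : ResidueField RY →ₐ[ResidueField OY] ResidueField RX).toRingHom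
    have hτ : τ.comp (algebraMap (ResidueField OY) (ResidueField RY)) = ResidueField.map fY :=
      (IsSepClosed.lift : ResidueField RY →ₐ[ResidueField OY] ResidueField RX).comp_algebraMap
    obtain ⟨β, ⟨hβ1, hβ2⟩, -⟩ := hRY.universal RX fY τ hτ
    haveI hβl : IsLocalHom β := isLocalHom_of_residue β τ hβ2
    haveI : HenselianLocalRing RY := hRY.henselian
    let fZ : Z.presheaf.stalk ((g ≫ h).base x) →+* RY := (algebraMap OY RY).comp (h.stalkMap (g.base x)).hom
    haveI : IsLocalHom fZ := RingHom.isLocalHom_comp _ _
    have hsm : ((g ≫ h).stalkMap x).hom = (g.stalkMap x).hom.comp (h.stalkMap (g.base x)).hom :=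
      congrArg CommRingCat.Hom.hom (Scheme.Hom.stalkMap_comp g h x)
    have hcomp : (algebraMap RZ RX).comp (algebraMap (Z.presheaf.stalk ((g ≫ h).base x)) RZ) = β.comp fZ := by
      exact hc.trans ((congrArg (fun k => (algebraMap (X.presheaf.stalk x) RX).comp k) hsm).trans
        (congrArg (fun k : OY →+* RX => k.comp (h.stalkMap (g.base x)).hom) hβ1).symm)
    have hres : (ResidueField.map (algebraMap RZ RX)).comp
        (algebraMap (ResidueField (Z.presheaf.stalk ((g ≫ h).base x))) (ResidueField RZ)) =
        (τ.comp (algebraMap (ResidueField OY) (ResidueField RY))).comp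
          (ResidueField.map (h.stalkMap (g.base x)).hom) := by
      refine RingHom.ext fun r => ?_
      obtain ⟨r, rfl⟩ := residue_surjective r
      show residue RX (algebraMap RZ RX (algebraMap _ RZ r)) =
        τ (residue RY (algebraMap OY RY ((h.stalkMap (g.base x)).hom r)))
      rw [← hβ2]
      exact congrArg (residue RX) (RingHom.congr_fun hcomp r)
    obtain ⟨τ', hτ'1, hτ'2⟩ := exists_factor_sepClosure _ τ _ hres
    obtain ⟨α, ⟨hα1, hα2⟩, -⟩ := hZ.universal RY fZ τ' (by
      refine RingHom.ext fun r => ?_
      obtain ⟨r, rfl⟩ := residue_surjective r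
      exact RingHom.congr_fun hτ'2 _)
    haveI hαl : IsLocalHom α := isLocalHom_of_residue α τ' hα2
    have hψ : algebraMap RZ RX = β.comp α := by
      refine (hZ.universal RX (β.comp fZ) (ResidueField.map (algebraMap RZ RX)) ?_).unique
        ⟨hcomp, fun r => rfl⟩ ⟨by rw [RingHom.comp_assoc, hα1], fun r => ?_⟩
      · refine RingHom.ext fun r => ?_
        obtain ⟨r, rfl⟩ := residue_surjective r
        exact congrArg (residue RX) (RingHom.congr_fun hcomp r)
      · show residue RX (β (α r)) = ResidueField.map (algebraMap RZ RX) (residue RZ r)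
        rw [hβ2, hα2, ← hτ'1]
        rfl
    have e : Spec.map (CommRingCat.ofHom (algebraMap RZ RX)) =
        Spec.map (CommRingCat.ofHom β) ≫ Spec.map (CommRingCat.ofHom α) := by
      rw [← Spec.map_comp, hψ]
      rfl
    rw [e]
    refine (hP _ _ ?_).1 ?_
    · letI : Algebra RY RX := β.toAlgebra
      haveI : IsLocalHom (algebraMap RY RX) := hβl
      exact Hg x RY RX hβ1
    · letI : Algebra RZ RY := α.toAlgebra
      haveI : IsLocalHom (algebraMap RZ RY) := hαl
      exact @Hh (g.base x) RZ RY iCZ _ iLZ _ iAZ iHZ hZ _ _ hRY _ _ hα1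
  · intro Hgh y RZ RY iCZ _ iLZ _ iAZ iHZ hZ _ _ hRY _ _ hc
    obtain ⟨x, rfl⟩ := hg y
    let OX := X.presheaf.stalk x
    let OY := Y.presheaf.stalk (g.base x)
    let RX := GrothLib.Hensel.StrictHens OX
    haveI hX := GrothLib.Hensel.StrictHens.isStrictHenselization OX
    haveI := hX.isSepClosure
    haveI := hRY.isSepClosure
    haveI : HenselianLocalRing RX := hX.henselian
    haveI : IsSepClosed (ResidueField RX) := IsSepClosure.sep_closed (ResidueField OX)
    haveI : Algebra.IsSeparable (ResidueField OY) (ResidueField RY) := IsSepClosure.isSeparable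
    let fY : OY →+* RX := (algebraMap OX RX).comp (g.stalkMap x).hom
    haveI : IsLocalHom fY := RingHom.isLocalHom_comp _ _
    letI : Algebra (ResidueField OY) (ResidueField RX) := (ResidueField.map fY).toAlgebra
    let τ : ResidueField RY →+* ResidueField RX :=
      (IsSepClosed.lift : ResidueField RY →ₐ[ResidueField OY] ResidueField RX).toRingHom
    have hτ : τ.comp (algebraMap (ResidueField OY) (ResidueField RY)) = ResidueField.map fY :=
      (IsSepClosed.lift : ResidueField RY →ₐ[ResidueField OY] ResidueField RX).comp_algebraMap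
    obtain ⟨β, ⟨hβ1, hβ2⟩, -⟩ := hRY.universal RX fY τ hτ
    haveI hβl : IsLocalHom β := isLocalHom_of_residue β τ hβ2
    refine (hP (Spec.map (CommRingCat.ofHom β)) (Spec.map (CommRingCat.ofHom (algebraMap RZ RY))) ?_).2 ?_
    · letI : Algebra RY RX := β.toAlgebra
      haveI : IsLocalHom (algebraMap RY RX) := hβl
      exact @Hg x RY RX _ _ _ _ _ _ hRY _ _ hX _ _ hβ1
    · rw [← Spec.map_comp]
      letI : Algebra RZ RX := (β.comp (algebraMap RZ RY)).toAlgebra
      haveI : IsLocalHom (algebraMap RZ RX) := RingHom.isLocalHom_comp β (algebraMap RZ RY)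
      refine @Hgh x RZ RX iCZ _ iLZ _ iAZ iHZ hZ _ _ hX _ _ ?_
      show (β.comp (algebraMap RZ RY)).comp _ = (algebraMap OX RX).comp ((g ≫ h).stalkMap x).hom
      refine Eq.trans (congrArg (fun k => β.comp k) hc) ?_
      refine Eq.trans (congrArg (fun k : OY →+* RX => k.comp (h.stalkMap (g.base x)).hom) hβ1) ?_
      exact (congrArg (fun k => (algebraMap OX RX).comp (CommRingCat.Hom.hom k)) (Scheme.Hom.stalkMap_comp g h x)).symm

end GrothLib.EtDer
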